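/-
An alternating plane tensored with an orthogonal space: coordinates, the form, the members of the stabiliser of
the decomposition.
-/
import Cfsg.Agent.Lib.TensorMax.UBase
import Cfsg.Agent.Lib.Transvec.Alt
import Cfsg.Agent.Lib.Transvec.QuadGen

set_option autoImplicit false
set_option linter.all false

namespace Cfsg.Agent.SympOrth

open scoped Matrix Kronecker
open Matrix Cfsg.Agent.Transvec Cfsg.Agent.TensorMax
open Cfsg.Agent.TensorMax.U (kr mv_kr_ten isKron_kr mv_kron_ten ext_ten_mv)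

variable {β : Type} [Fintype β] [DecidableEq β] {F : Type*} [Field F]

/-- The first component. -/
def co0 : (Fin 2 × β → F) →ₗ[F] β → F where
  toFun x k := x (0, k)
  map_add' _ _ := rfl
  map_smul' _ _ := rfl

/-- The second component. -/
def co1 : (Fin 2 × β → F) →ₗ[F] β → F where
  toFun x k := x (1, k)
  map_add' _ _ := rfl
  map_smul' _ _ := rfl

/-- The vector with two given components. -/
def vec (p r : β → F) : Fin 2 × β → F := fun i => (![p, r] i.1) i.2

@[simp] theorem co0_vec (p r : β → F) : co0 (vec p r) = p := rfl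

@[simp] theorem co1_vec (p r : β → F) : co1 (vec p r) = r := rfl

theorem vec_co (x : Fin 2 × β → F) : vec (co0 x) (co1 x) = x := by
  funext ⟨i, k⟩
  fin_cases i <;> rfl

theorem co_ext {x y : Fin 2 × β → F} (h0 : co0 x = co0 y) (h1 : co1 x = co1 y) : x = y := by
  rw [← vec_co x, h0, h1, vec_co y]

theorem vec_add (p r p' r' : β → F) : vec (p + p') (r + r') = vec p r + vec p' r' := by
  refine co_ext ?_ ?_ <;> simp

theorem vec_smul (a : F) (p r : β → F) : vec (a • p) (a • r) = a • vec p r := by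
  refine co_ext ?_ ?_ <;> simp

theorem vec_zero : (vec 0 0 : Fin 2 × β → F) = 0 := by
  refine co_ext ?_ ?_ <;> simp

/-- The first embedding. -/
def inl : (β → F) →ₗ[F] Fin 2 × β → F where
  toFun p := vec p 0
  map_add' p p' := by rw [← vec_add, add_zero]
  map_smul' a p := by rw [RingHom.id_apply, ← vec_smul, smul_zero]

@[simp] theorem inl_apply (p : β → F) : (inl p : Fin 2 × β → F) = vec p 0 := rfl

theorem co0_ten (α : Fin 2 → F) (w : β → F) : co0 (ten α w) = α 0 • w := rfl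

theorem co1_ten (α : Fin 2 → F) (w : β → F) : co1 (ten α w) = α 1 • w := rfl

theorem vec_eq_ten (p r : β → F) : vec p r = ten ![1, 0] p + ten ![0, 1] r := by
  refine co_ext ?_ ?_ <;> simp [co0_ten, co1_ten]

theorem mv_kr_vec (A : GL (Fin 2) F) (G : GL β F) (p r : β → F) :
    mv (kr A G) (vec p r) =
      vec ((A : Matrix (Fin 2) (Fin 2) F) 0 0 • mv G p + (A : Matrix (Fin 2) (Fin 2) F) 0 1 • mv G r)
        ((A : Matrix (Fin 2) (Fin 2) F) 1 0 • mv G p + (A : Matrix (Fin 2) (Fin 2) F) 1 1 • mv G r) := by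
  rw [vec_eq_ten, mv_add, mv_kr_ten, mv_kr_ten]
  refine co_ext ?_ ?_ <;>
    simp [co0_ten, co1_ten, mv, Matrix.mulVec, dotProduct, Fin.sum_univ_two]

/-- The alternating form of the product. -/
def frm (Q : (β → F) → F) (x y : Fin 2 × β → F) : F :=
  Orth.pol Q (co0 x) (co1 y) - Orth.pol Q (co1 x) (co0 y)

theorem frm_vec (Q : (β → F) → F) (p r p' r' : β → F) :
    frm Q (vec p r) (vec p' r') = Orth.pol Q p r' - Orth.pol Q r p' := rfl

variable {Q : (β → F) → F}

theorem frm_symplectic (hQ : Geo.IsNondegenerateQuadraticForm Q) : Geo.IsSymplecticForm (frm Q) where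
  bilinear :=
    { add_left := fun x y v => by simp only [frm, map_add, Orth.pol_add_left hQ]; ring
      smul_left := fun c x v => by simp only [frm, map_smul, Orth.pol_smul_left hQ]; ring
      add_right := fun v x y => by simp only [frm, map_add, Orth.pol_add_right hQ]; ring
      smul_right := fun c v x => by simp only [frm, map_smul, Orth.pol_smul_right hQ]; ring }
  skew v w := by simp only [frm, Orth.pol_comm (co0 v), Orth.pol_comm (co1 v)]; ring
  alternating v := by simp only [frm, Orth.pol_comm (co0 v)]; ring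
  nondegenerate v hv := by
    by_cases h0 : co0 v = 0
    · have h1 : co1 v ≠ 0 := fun h => hv (co_ext (by simp [h0]) (by simp [h]))
      obtain ⟨⟨x, hx⟩, ⟨y, hy⟩⟩ := hQ.nondegenerate _ h1
      exact ⟨⟨vec x 0, by simpa [frm, Orth.pol_zero_left hQ] using hx⟩,
        ⟨vec y 0, by simpa [frm, h0, Orth.pol_zero_left hQ] using hy⟩⟩
    · obtain ⟨⟨x, hx⟩, ⟨y, hy⟩⟩ := hQ.nondegenerate _ h0
      exact ⟨⟨vec 0 x, by simpa [frm, Orth.pol_zero_left hQ] using hx⟩,
        ⟨vec 0 y, by simpa [frm, Orth.pol_zero_right hQ] using hy⟩⟩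

/-- An overgroup of the stabiliser of the decomposition inside the isometry group. -/
structure Ctx (Q : (β → F) → F) (M : Subgroup (GL (Fin 2 × β) F)) : Prop where
  hQ : Geo.IsNondegenerateQuadraticForm Q
  h2 : (2 : F) ≠ 0
  h5 : 5 ≤ Fintype.card β
  le : M ≤ preserving (Units.coeHom (Matrix (Fin 2 × β) (Fin 2 × β) F)) (frm Q)
  kron : ∀ g, IsKron g → g ∈ preserving (Units.coeHom (Matrix (Fin 2 × β) (Fin 2 × β) F)) (frm Q) → g ∈ M

variable {M : Subgroup (GL (Fin 2 × β) F)}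

theorem Ctx.hf (C : Ctx Q M) : Geo.IsSymplecticForm (frm Q) := frm_symplectic C.hQ

theorem Ctx.iso (C : Ctx Q M) {g : GL (Fin 2 × β) F} (hg : g ∈ M) (x y : Fin 2 × β → F) :
    frm Q (mv g x) (mv g y) = frm Q x y :=
  C.le hg x y

theorem Ctx.iso_inv (C : Ctx Q M) {g : GL (Fin 2 × β) F} (hg : g ∈ M) (x y : Fin 2 × β → F) :
    frm Q (mv g x) y = frm Q x (mv g⁻¹ y) := by
  rw [← C.iso hg x (mv g⁻¹ y), mv_mv_inv]

theorem Ctx.nonempty (C : Ctx Q M) : Nonempty β := Fintype.card_pos_iff.1 (by have := C.h5; omega)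

theorem Ctx.half (C : Ctx Q M) (a : β → F) : Q a = Orth.pol Q a a / 2 := by
  have := C.h2
  rw [Orth.pol_self C.hQ]
  field_simp

/-- The members of the stabiliser of the decomposition. -/
theorem Ctx.mem_blk (C : Ctx Q M) (a b c d μ : F) (G : GL β F)
    (hG : ∀ p p', Orth.pol Q (mv G p) (mv G p') = μ * Orth.pol Q p p') (hdet : μ * (a * d - b * c) = 1) :
    ∃ g ∈ M, IsKron g ∧ ∀ p r, mv g (vec p r) = vec (a • mv G p + b • mv G r) (c • mv G p + d • mv G r) := by
  have hd : (!![a, b; c, d] : Matrix (Fin 2) (Fin 2) F).det ≠ 0 := by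
    rw [Matrix.det_fin_two_of]
    intro h
    rw [h, mul_zero] at hdet
    exact zero_ne_one hdet
  set A := Matrix.GeneralLinearGroup.mkOfDetNeZero _ hd with hA
  have hmv : ∀ p r, mv (kr A G) (vec p r) = vec (a • mv G p + b • mv G r) (c • mv G p + d • mv G r) := fun p r => by
    rw [mv_kr_vec]; rfl
  refine ⟨kr A G, C.kron _ (isKron_kr _ _) ?_, isKron_kr _ _, hmv⟩
  show ∀ x y, frm Q (mv (kr A G) x) (mv (kr A G) y) = frm Q x y
  intro x y
  conv_lhs => rw [← vec_co x, ← vec_co y, hmv, hmv]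
  simp only [frm, co0_vec, co1_vec, Orth.pol_add_left C.hQ, Orth.pol_add_right C.hQ, Orth.pol_smul_left C.hQ,
    Orth.pol_smul_right C.hQ, hG]
  linear_combination (Orth.pol Q (co0 x) (co1 y) - Orth.pol Q (co1 x) (co0 y)) * hdet

theorem Ctx.mem_A (C : Ctx Q M) (a b c d : F) (hdet : a * d - b * c = 1) :
    ∃ g ∈ M, IsKron g ∧ ∀ p r, mv g (vec p r) = vec (a • p + b • r) (c • p + d • r) := by
  obtain ⟨g, hg, hk, h⟩ := C.mem_blk a b c d 1 1 (fun p p' => by rw [mv_one, mv_one, one_mul]) (by rw [one_mul, hdet])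
  exact ⟨g, hg, hk, fun p r => by rw [h, mv_one, mv_one]⟩

/-- The reflection in the second factor. -/
theorem Ctx.mem_refl (C : Ctx Q M) {w : β → F} (hw : Q w ≠ 0) :
    ∃ g ∈ M, ∀ p r, mv g (vec p r) =
      vec (p - (Orth.pol Q p w / Q w) • w) (r - (Orth.pol Q r w / Q w) • w) := by
  obtain ⟨G, hG, hGr⟩ := Orth.exists_refl C.hQ hw
  obtain ⟨g, hg, -, h⟩ := C.mem_blk 1 0 0 1 1 G (fun p p' => by rw [Orth.pol_mv C.hQ hG, one_mul]) (by ring)
  exact ⟨g, hg, fun p r => by rw [h, hGr.2 p, hGr.2 r, one_smul, zero_smul, add_zero, zero_smul, one_smul, zero_add]⟩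

/-- The Siegel element in the second factor. -/
theorem Ctx.mem_siegel (C : Ctx Q M) {e y : β → F} (he : Q e = 0) (hey : Orth.pol Q e y = 0) :
    ∃ g ∈ M, ∀ p r, mv g (vec p r) =
      vec (p + Orth.pol Q p e • y - (Orth.pol Q p y + Q y * Orth.pol Q p e) • e)
        (r + Orth.pol Q r e • y - (Orth.pol Q r y + Q y * Orth.pol Q r e) • e) := by
  obtain ⟨G, hG, hGs⟩ := Orth.exists_siegel C.hQ he hey
  obtain ⟨g, hg, -, h⟩ := C.mem_blk 1 0 0 1 1 G (fun p p' => by rw [Orth.pol_mv C.hQ hG, one_mul]) (by ring)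
  exact ⟨g, hg, fun p r => by simp [h, hGs p, hGs r]⟩

/-! ### Elementary facts on the second factor -/

variable (hQ : Geo.IsNondegenerateQuadraticForm Q)

/-- Non-singular vectors of a non-degenerate subspace detect vectors. -/
theorem exists_nonsing_pol (hQ : Geo.IsNondegenerateQuadraticForm Q) (h2 : (2 : F) ≠ 0)
    {X : Submodule F (β → F)} (hX : Orth.Nondeg Q X) {v : β → F} (hv : v ∈ X) (hv0 : v ≠ 0) :
    ∃ z ∈ X, Q z ≠ 0 ∧ Orth.pol Q v z ≠ 0 := by
  obtain ⟨y, hy, hvy⟩ : ∃ y ∈ X, Orth.pol Q v y ≠ 0 := by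
    by_contra h
    push Not at h
    exact hv0 (hX v hv fun w hw => by rw [Orth.pol_comm]; exact h w hw)
  by_cases hy0 : Q y = 0
  swap
  · exact ⟨y, hy, hy0, hvy⟩
  obtain ⟨a, ha, haQ⟩ := Orth.exists_anisotropic hQ hX fun h => hv0 (by rw [h] at hv; simpa using hv)
  by_cases hva : Orth.pol Q v a = 0
  swap
  · exact ⟨a, ha, haQ, hva⟩
  by_cases hya : Q (y + a) = 0
  · refine ⟨y - a, X.sub_mem hy ha, fun h => ?_, by rwa [Orth.pol_sub_right hQ, hva, sub_zero]⟩
    rw [Orth.q_sub hQ] at h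
    rw [Orth.q_add hQ] at hya
    exact haQ (mul_left_cancel₀ h2 (by linear_combination h + hya - 2 * hy0))
  · exact ⟨y + a, X.add_mem hy ha, hya, by rwa [Orth.pol_add_right hQ, hva, add_zero]⟩

/-- Two non-singular vectors have a common non-singular partner. -/
theorem exists_connect [Finite F] (hQ : Geo.IsNondegenerateQuadraticForm Q) (h2 : (2 : F) ≠ 0)
    {X : Submodule F (β → F)} (hX : Orth.Nondeg Q X) (h3 : 3 ≤ Module.finrank F X) {w w' : β → F}
    (hw : w ∈ X) (hw' : w' ∈ X) (hwQ : Q w ≠ 0) (hw'Q : Q w' ≠ 0) :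
    ∃ z ∈ X, Q z ≠ 0 ∧ Orth.pol Q w z ≠ 0 ∧ Orth.pol Q w' z ≠ 0 := by
  have hself : ∀ v : β → F, Q v ≠ 0 → Orth.pol Q v v ≠ 0 := fun v hv => by
    rw [Orth.pol_self hQ]; exact mul_ne_zero h2 hv
  by_cases hb : Orth.pol Q w w' = 0
  swap
  · exact ⟨w, hw, hwQ, hself w hwQ, by rw [Orth.pol_comm]; exact hb⟩
  have hb' : Orth.pol Q w' w = 0 := by rw [Orth.pol_comm]; exact hb
  by_cases hs : Q w + Q w' = 0
  swap
  · refine ⟨w + w', X.add_mem hw hw', ?_, ?_, ?_⟩
    · rwa [Orth.q_add hQ, hb, add_zero]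
    · rw [Orth.pol_add_right hQ, hb, add_zero]; exact hself w hwQ
    · rw [Orth.pol_add_right hQ, hb', zero_add]; exact hself w' hw'Q
  obtain ⟨z₃, hz₃, hz₃Q, h31, h32⟩ :
      ∃ z₃ ∈ X, Q z₃ ≠ 0 ∧ Orth.pol Q w z₃ = 0 ∧ Orth.pol Q w' z₃ = 0 := by
    by_contra hcon
    push Not at hcon
    obtain ⟨x, hx, hx0, hxw⟩ : ∃ x ∈ X, x ≠ 0 ∧ ∀ u ∈ ({w, w'} : Set (β → F)), Orth.pol Q u x = 0 := by
      obtain ⟨x, hx, hx0⟩ := (X ⊓ LinearMap.ker (LinearMap.pi ![Orth.formQ hQ w, Orth.formQ hQ w'])).ne_bot_iff.1 (fun h => by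
        have h1 := LinearMap.finrank_range_add_finrank_ker
          ((LinearMap.pi ![Orth.formQ hQ w, Orth.formQ hQ w']).domRestrict X)
        have h2 := Submodule.finrank_le (LinearMap.range
          ((LinearMap.pi ![Orth.formQ hQ w, Orth.formQ hQ w']).domRestrict X))
        rw [Module.finrank_fin_fun] at h2
        obtain ⟨k, hk, hk0⟩ := (LinearMap.ker
          ((LinearMap.pi ![Orth.formQ hQ w, Orth.formQ hQ w']).domRestrict X)).ne_bot_iff.1
          (fun h0 => by rw [h0, finrank_bot] at h1; omega)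
        have hmem : (k : β → F) ∈ X ⊓ LinearMap.ker (LinearMap.pi ![Orth.formQ hQ w, Orth.formQ hQ w']) :=
          ⟨k.2, LinearMap.mem_ker.2 (LinearMap.mem_ker.1 hk)⟩
        rw [h] at hmem
        exact hk0 (Subtype.ext (by simpa using hmem)))
      have hk := LinearMap.mem_ker.1 hx.2
      refine ⟨x, hx.1, hx0, ?_⟩
      rintro u (rfl | rfl)
      · rw [Orth.pol_comm]; exact congrFun hk 0
      · rw [Orth.pol_comm]; exact congrFun hk 1
    have hxQ : Q x = 0 := by
      by_contra hxQ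
      exact hcon x hx hxQ (hxw w (Set.mem_insert _ _)) (hxw w' (Set.mem_insert_of_mem _ rfl))
    obtain ⟨d, hd, -, hxd⟩ := Orth.exists_partner hQ hX hx hx0 hxQ
    set d₁ := d - (Orth.pol Q w d / Orth.pol Q w w) • w - (Orth.pol Q w' d / Orth.pol Q w' w') • w' with hd₁
    have e1 : Orth.pol Q w d₁ = 0 := by
      have := hself w hwQ
      rw [hd₁, Orth.pol_sub_right hQ, Orth.pol_sub_right hQ, Orth.pol_smul_right hQ, Orth.pol_smul_right hQ, hb]
      field_simp
      ring
    have e2 : Orth.pol Q w' d₁ = 0 := by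
      have := hself w' hw'Q
      rw [hd₁, Orth.pol_sub_right hQ, Orth.pol_sub_right hQ, Orth.pol_smul_right hQ, Orth.pol_smul_right hQ, hb']
      field_simp
      ring
    have e3 : Orth.pol Q x d₁ = 1 := by
      rw [hd₁, Orth.pol_sub_right hQ, Orth.pol_sub_right hQ, Orth.pol_smul_right hQ, Orth.pol_smul_right hQ, hxd,
        Orth.pol_comm x w, Orth.pol_comm x w', hxw w (Set.mem_insert _ _),
        hxw w' (Set.mem_insert_of_mem _ rfl)]
      ring
    have hd₁X : d₁ ∈ X := X.sub_mem (X.sub_mem hd (X.smul_mem _ hw)) (X.smul_mem _ hw')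
    have f1 := hcon d₁ hd₁X
    have hd₁Q : Q d₁ = 0 := by
      by_contra h; exact f1 h e1 e2
    refine hcon (x + d₁) (X.add_mem hx hd₁X) (by rw [Orth.q_add hQ, hxQ, hd₁Q, e3]; simp) ?_ ?_
    · rw [Orth.pol_add_right hQ, e1, hxw w (Set.mem_insert _ _), add_zero]
    · rw [Orth.pol_add_right hQ, e2, hxw w' (Set.mem_insert_of_mem _ rfl), add_zero]
  refine ⟨w + w' + z₃, X.add_mem (X.add_mem hw hw') hz₃, ?_, ?_, ?_⟩
  · rw [Orth.q_add hQ, Orth.q_add hQ, hb, Orth.pol_add_left hQ, h31, h32, add_zero, hs, zero_add, add_zero, add_zero]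
    exact hz₃Q
  · rw [Orth.pol_add_right hQ, Orth.pol_add_right hQ, hb, h31, add_zero, add_zero]; exact hself w hwQ
  · rw [Orth.pol_add_right hQ, Orth.pol_add_right hQ, hb', h32, zero_add, add_zero]; exact hself w' hw'Q

/-- Linear conditions on non-singular vectors extend to the subspace. -/
theorem forall_of_nonsing (hQ : Geo.IsNondegenerateQuadraticForm Q) (h2 : (2 : F) ≠ 0)
    {X : Submodule F (β → F)} (hX : Orth.Nondeg Q X) {W : Submodule F (β → F)}
    (h : ∀ z ∈ X, Q z ≠ 0 → z ∈ W) : X ≤ W := by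
  intro x hx
  by_cases hx0 : Q x = 0
  swap
  · exact h x hx hx0
  rcases eq_or_ne x 0 with rfl | hne
  · exact W.zero_mem
  obtain ⟨a, ha, haQ⟩ := Orth.exists_anisotropic hQ hX fun h => hne (by rw [h] at hx; simpa using hx)
  by_cases hxa : Q (x + a) = 0
  · have : Q (x - a) ≠ 0 := fun h' => by
      rw [Orth.q_sub hQ] at h'
      rw [Orth.q_add hQ] at hxa
      exact haQ (mul_left_cancel₀ h2 (by linear_combination h' + hxa - 2 * hx0))
    simpa using W.add_mem (h _ (X.sub_mem hx ha) this) (h a ha haQ)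
  · simpa using W.sub_mem (h _ (X.add_mem hx ha) hxa) (h a ha haQ)

end Cfsg.Agent.SympOrth
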