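/-
A member of the radical of a line that is not scalar gives the whole isometry group.
-/
import Cfsg.Agent.Lib.SympOrth.Setup
import Cfsg.Agent.Lib.Transvec.AltMaximal

set_option autoImplicit false
set_option linter.all false

namespace Cfsg.Agent.SympOrth

open scoped Matrix
open Matrix Cfsg.Agent.Transvec Cfsg.Agent.TensorMax

variable {β : Type} [Fintype β] [DecidableEq β] {F : Type*} [Field F]
variable {Q : (β → F) → F} {M : Subgroup (GL (Fin 2 × β) F)}

/-- Members of the radical of the first line. -/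
def Short (M : Subgroup (GL (Fin 2 × β) F)) (S : (β → F) →ₗ[F] β → F) : Prop :=
  ∃ g ∈ M, ∀ p r, mv g (vec p r) = vec (p + S r) r

theorem Short.add {S T : (β → F) →ₗ[F] β → F} (hS : Short M S) (hT : Short M T) : Short M (S + T) := by
  obtain ⟨g, hg, hgv⟩ := hS
  obtain ⟨h, hh, hhv⟩ := hT
  exact ⟨g * h, M.mul_mem hg hh, fun p r => by
    rw [mv_mul, hhv, hgv, LinearMap.add_apply, add_assoc, add_comm (T r) (S r)]⟩

theorem Short.zero : Short M 0 := ⟨1, M.one_mem, fun p r => by simp [mv_one]⟩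

theorem Short.neg {S : (β → F) →ₗ[F] β → F} (hS : Short M S) : Short M (-S) := by
  obtain ⟨g, hg, hgv⟩ := hS
  exact ⟨g⁻¹, M.inv_mem hg, fun p r => mv_inj g (by rw [mv_mv_inv, hgv]; simp)⟩

theorem Short.sub {S T : (β → F) →ₗ[F] β → F} (hS : Short M S) (hT : Short M T) : Short M (S - T) := by
  rw [sub_eq_add_neg]; exact hS.add hT.neg

theorem short_id (C : Ctx Q M) (k : F) : Short M (k • LinearMap.id) := by
  obtain ⟨g, hg, -, h⟩ := C.mem_A 1 k 0 1 (by ring)
  exact ⟨g, hg, fun p r => by simp [h]⟩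

theorem short_smul (C : Ctx Q M) {S : (β → F) →ₗ[F] β → F} (hS : Short M S) (k : F) : Short M (k • S) := by
  have sq : ∀ l : F, Short M ((l * l) • S) := by
    intro l
    rcases eq_or_ne l 0 with rfl | hl
    · simpa using Short.zero
    obtain ⟨g, hg, hgv⟩ := hS
    obtain ⟨t, ht, -, htv⟩ := C.mem_A l 0 0 l⁻¹ (by rw [mul_inv_cancel₀ hl]; ring)
    have hti : ∀ p r, mv t⁻¹ (vec p r) = vec (l⁻¹ • p) (l • r) := fun p r => mv_inj t (by
      rw [mv_mv_inv, htv]; simp [smul_smul, hl])
    refine ⟨t * g * t⁻¹, M.mul_mem (M.mul_mem ht hg) (M.inv_mem ht), fun p r => ?_⟩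
    rw [mv_mul, mv_mul, hti, hgv, htv]
    simp [smul_add, smul_smul, hl]
  have := (sq ((k + 1) / 2)).sub (sq ((k - 1) / 2))
  have h2 := C.h2
  convert this using 1
  refine LinearMap.ext fun x => ?_
  simp only [LinearMap.smul_apply, LinearMap.sub_apply]
  match_scalars
  field_simp
  ring

theorem short_symm (C : Ctx Q M) {S : (β → F) →ₗ[F] β → F} (hS : Short M S) (x y : β → F) :
    Orth.pol Q (S x) y = Orth.pol Q x (S y) := by
  obtain ⟨g, hg, hgv⟩ := hS
  have h := C.iso hg (vec 0 x) (vec 0 y)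
  rw [hgv, hgv, frm_vec, frm_vec, zero_add, zero_add, Orth.pol_zero_left C.hQ, Orth.pol_zero_right C.hQ] at h
  linear_combination h

/-- The conjugate by a reflection. -/
theorem short_refl (C : Ctx Q M) {S : (β → F) →ₗ[F] β → F} (hS : Short M S) {w : β → F} (hw : Q w ≠ 0) :
    ∃ T, Short M T ∧ ∀ x, T x = S (x - (Orth.pol Q x w / Q w) • w) -
      (Orth.pol Q (S (x - (Orth.pol Q x w / Q w) • w)) w / Q w) • w := by
  obtain ⟨t, ht, htv⟩ := C.mem_refl hw
  obtain ⟨g, hg, hgv⟩ := hS
  set r : (β → F) →ₗ[F] β → F := LinearMap.id - ((Q w)⁻¹ • Orth.formQ C.hQ w).smulRight w with hr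
  have hr' : ∀ x, r x = x - (Orth.pol Q x w / Q w) • w := fun x => by
    simp [hr, Orth.formQ_apply, div_eq_inv_mul]
  have hrr : ∀ x, r (r x) = x := fun x => by
    rw [hr', hr', Orth.pol_sub_left C.hQ, Orth.pol_smul_left C.hQ, Orth.pol_self C.hQ]
    match_scalars
    · field_simp
    · field_simp; ring
  have hti : ∀ p q, mv t⁻¹ (vec p q) = vec (r p) (r q) := fun p q => mv_inj t (by
    rw [mv_mv_inv, htv, ← hr', ← hr', hrr, hrr])
  refine ⟨r.comp (S.comp r), ⟨t * g * t⁻¹, M.mul_mem (M.mul_mem ht hg) (M.inv_mem ht), fun p q => ?_⟩, fun x => ?_⟩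
  · rw [mv_mul, mv_mul, hti, hgv, htv, ← hr', ← hr', map_add, hrr, hrr]
    rfl
  · rw [LinearMap.comp_apply, LinearMap.comp_apply, hr' x, hr']

/-- The symmetric product of two vectors. -/
def dd (hQ : Geo.IsNondegenerateQuadraticForm Q) (w v : β → F) : (β → F) →ₗ[F] β → F :=
  (Orth.formQ hQ v).smulRight w + (Orth.formQ hQ w).smulRight v

theorem dd_apply (hQ : Geo.IsNondegenerateQuadraticForm Q) (w v x : β → F) :
    dd hQ w v x = Orth.pol Q x v • w + Orth.pol Q x w • v := by
  simp [dd, Orth.formQ_apply]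

theorem dd_comm (hQ : Geo.IsNondegenerateQuadraticForm Q) (w v : β → F) : dd hQ w v = dd hQ v w := by
  rw [dd, dd, add_comm]

/-- A radical element that is not scalar gives every symmetric product of orthogonal vectors. -/
theorem short_dd [Finite F] (C : Ctx Q M) {S : (β → F) →ₗ[F] β → F} (hS : Short M S)
    (hns : ∀ k : F, S ≠ k • LinearMap.id) {w v : β → F} (hw : Q w ≠ 0) (hwv : Orth.pol Q v w = 0) :
    Short M (dd C.hQ w v) := by
  have hQ := C.hQ
  have h2 := C.h2
  have hself : ∀ v : β → F, Q v ≠ 0 → Orth.pol Q v v ≠ 0 := fun v hv => by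
    rw [Orth.pol_self hQ]; exact mul_ne_zero h2 hv
  have hd : 5 ≤ Module.finrank F (⊤ : Submodule F (β → F)) := by
    rw [finrank_top, Module.finrank_pi]; exact C.h5
  obtain ⟨w₀, hw₀, hne⟩ : ∃ w, Q w ≠ 0 ∧ S w ∉ Submodule.span F {w} := by
    by_contra hcon
    push Not at hcon
    have hcon' : ∀ w, Q w ≠ 0 → ∃ a : F, a • w = S w := fun w hw => Submodule.mem_span_singleton.1 (hcon w hw)
    choose a ha using hcon'
    have heq : ∀ w w' (hw : Q w ≠ 0) (hw' : Q w' ≠ 0), Orth.pol Q w w' ≠ 0 → a w hw = a w' hw' := fun w w' hw hw' hb => by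
      have h := short_symm C hS w w'
      rw [← ha w hw, ← ha w' hw', Orth.pol_smul_left hQ, Orth.pol_smul_right hQ] at h
      exact mul_right_cancel₀ hb h
    obtain ⟨w₁, -, hw₁⟩ := Orth.exists_anisotropic hQ (Orth.nondeg_top hQ) (fun h => by
      rw [h, finrank_bot] at hd; omega)
    refine hns (a w₁ hw₁) (LinearMap.ext fun x => ?_)
    have hle : (⊤ : Submodule F (β → F)) ≤ LinearMap.ker (S - a w₁ hw₁ • LinearMap.id) :=
      forall_of_nonsing hQ h2 (Orth.nondeg_top hQ) fun z _ hz => by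
        obtain ⟨y, -, hy, hy1, hy2⟩ := exists_connect hQ h2 (Orth.nondeg_top hQ) (by omega)
          (Submodule.mem_top (x := w₁)) (Submodule.mem_top (x := z)) hw₁ hz
        rw [LinearMap.mem_ker, LinearMap.sub_apply, LinearMap.smul_apply, LinearMap.id_apply, ← ha z hz,
          heq z y hz hy hy2, ← heq w₁ y hw₁ hy hy1, sub_self]
    have := hle (Submodule.mem_top (x := x))
    rwa [LinearMap.mem_ker, LinearMap.sub_apply, sub_eq_zero] at this
  set V : (β → F) → Submodule F (β → F) := fun w =>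
    { carrier := {v | Orth.pol Q v w = 0 ∧ Short M (dd hQ w v)}
      zero_mem' := ⟨Orth.pol_zero_left hQ _, by
        rw [show dd hQ w 0 = 0 from LinearMap.ext fun x => by simp [dd_apply, Orth.pol_zero_right hQ]]
        exact Short.zero⟩
      add_mem' := fun {a b} ha hb => ⟨by rw [Orth.pol_add_left hQ, ha.1, hb.1, add_zero], by
        rw [show dd hQ w (a + b) = dd hQ w a + dd hQ w b from LinearMap.ext fun x => by
          simp only [dd_apply, LinearMap.add_apply, Orth.pol_add_right hQ, add_smul, smul_add]; abel]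
        exact ha.2.add hb.2⟩
      smul_mem' := fun k a ha => ⟨by rw [Orth.pol_smul_left hQ, ha.1, mul_zero], by
        rw [show dd hQ w (k • a) = k • dd hQ w a from LinearMap.ext fun x => by
          simp only [dd_apply, LinearMap.smul_apply, Orth.pol_smul_right hQ, smul_add, smul_smul, mul_comm k]]
        exact short_smul C ha.2 k⟩ } with hV
  set P : (β → F) → Submodule F (β → F) := fun w => Orth.orth hQ (Submodule.span F {w}) with hP
  have hPmem : ∀ w x, x ∈ P w ↔ Orth.pol Q w x = 0 := fun w x => by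
    rw [hP, Orth.mem_orth_span]; simp
  -- one pair gives all
  have full : ∀ w, Q w ≠ 0 → ∀ v ∈ V w, v ≠ 0 → P w ≤ V w := by
    intro w hw v hv hv0
    have hnd : Orth.Nondeg Q (P w) := by
      intro u hu hperp
      by_contra hu0
      obtain ⟨x, hx⟩ := (hQ.nondegenerate u hu0).1
      apply hx
      have hxu : Orth.pol Q (x - (Orth.pol Q x w / Orth.pol Q w w) • w) u = 0 := hperp _ ((hPmem w _).2 (by
        have := hself w hw
        rw [Orth.pol_sub_right hQ, Orth.pol_smul_right hQ, Orth.pol_comm w x, div_mul_cancel₀ _ this, sub_self]))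
      rw [Orth.pol_sub_left hQ, Orth.pol_smul_left hQ, (hPmem w u).1 hu, mul_zero, sub_zero] at hxu
      exact hxu
    have hd3 : 3 ≤ Module.finrank F (P w) := by
      have h1 := LinearMap.finrank_range_add_finrank_ker (Orth.formQ hQ w)
      have h2' := Submodule.finrank_le (LinearMap.range (Orth.formQ hQ w))
      have h3 := Submodule.finrank_mono (show LinearMap.ker (Orth.formQ hQ w) ≤ P w from fun x hx =>
        (hPmem w x).2 (by rw [Orth.pol_comm]; exact LinearMap.mem_ker.1 hx))
      rw [Module.finrank_self] at h2'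
      rw [Module.finrank_pi] at h1
      have := C.h5
      omega
    have reach : ∀ v ∈ V w, ∀ z ∈ P w, Q z ≠ 0 → Orth.pol Q v z ≠ 0 → z ∈ V w := by
      intro v hv z hz hzQ hvz
      have hzw : Orth.pol Q z w = 0 := by rw [Orth.pol_comm]; exact (hPmem w z).1 hz
      obtain ⟨T, hT, hTx⟩ := short_refl C hv.2 hzQ
      have hmem : v - (Orth.pol Q v z / Q z) • z ∈ V w := by
        refine ⟨by rw [Orth.pol_sub_left hQ, Orth.pol_smul_left hQ, hv.1, hzw, mul_zero, sub_zero], ?_⟩
        convert hT using 1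
        refine LinearMap.ext fun x => ?_
        rw [hTx, dd_apply, dd_apply]
        simp only [Orth.pol_sub_right hQ, Orth.pol_smul_right hQ, Orth.pol_sub_left hQ, Orth.pol_add_left hQ,
          Orth.pol_smul_left hQ, Orth.pol_comm w z, hzw, Orth.pol_comm z v, mul_zero, sub_zero, zero_add]
        match_scalars <;> ring
      have h := (V w).smul_mem (Orth.pol Q v z / Q z)⁻¹ ((V w).sub_mem hv hmem)
      rwa [sub_sub_cancel, smul_smul, inv_mul_cancel₀ (div_ne_zero hvz hzQ), one_smul] at h
    have hvP : v ∈ P w := (hPmem w v).2 (by rw [Orth.pol_comm]; exact hv.1)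
    obtain ⟨z₀, hz₀, hz₀Q, hvz₀⟩ := exists_nonsing_pol hQ h2 hnd hvP hv0
    have hz₀V := reach v hv z₀ hz₀ hz₀Q hvz₀
    refine forall_of_nonsing hQ h2 hnd fun z hz hzQ => ?_
    obtain ⟨y, hy, hyQ, hy1, hy2⟩ := exists_connect hQ h2 hnd hd3 hz₀ hz hz₀Q hzQ
    exact reach y (reach z₀ hz₀V y hy hyQ hy1) z hz hzQ (by rw [Orth.pol_comm]; exact hy2)
  have start : ∃ v ∈ V w₀, v ≠ 0 := by
    set v := S w₀ - (Orth.pol Q (S w₀) w₀ / Orth.pol Q w₀ w₀) • w₀ with hv
    have hvw : Orth.pol Q v w₀ = 0 := by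
      rw [hv, Orth.pol_sub_left hQ, Orth.pol_smul_left hQ, div_mul_cancel₀ _ (hself w₀ hw₀), sub_self]
    refine ⟨v, ⟨hvw, ?_⟩, fun h => hne ?_⟩
    · obtain ⟨T, hT, hTx⟩ := short_refl C hS hw₀
      convert short_smul C (hS.sub hT) (Q w₀) using 1
      refine LinearMap.ext fun x => ?_
      rw [LinearMap.smul_apply, LinearMap.sub_apply, hTx, dd_apply, hv, map_sub, map_smul]
      simp only [Orth.pol_sub_right hQ, Orth.pol_smul_right hQ, Orth.pol_sub_left hQ, Orth.pol_smul_left hQ,
        short_symm C hS x w₀, Orth.pol_self hQ w₀]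
      match_scalars <;> field_simp <;> ring
    · rw [hv, sub_eq_zero] at h
      rw [h]
      exact Submodule.smul_mem _ _ (Submodule.mem_span_singleton_self _)
  obtain ⟨v₀, hv₀, hv₀0⟩ := start
  have h₀ := full w₀ hw₀ v₀ hv₀ hv₀0
  have next' : ∀ w x, Q w ≠ 0 → Q x ≠ 0 → Orth.pol Q w x = 0 → P w ≤ V w → P x ≤ V x := by
    intro w x hw hx hwx h
    refine full x hx w ⟨hwx, ?_⟩ (fun h0 => hw (by rw [h0, Orth.q_zero hQ]))
    rw [dd_comm]
    exact (h ((hPmem w x).2 hwx)).2
  obtain ⟨y, hyQ, hy1, hy2⟩ : ∃ y, Q y ≠ 0 ∧ Orth.pol Q w₀ y = 0 ∧ Orth.pol Q w y = 0 := by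
    set K := LinearMap.ker (LinearMap.pi ![Orth.formQ hQ w₀, Orth.formQ hQ w])
    have hk : _ + Module.finrank F K = _ :=
      LinearMap.finrank_range_add_finrank_ker (LinearMap.pi ![Orth.formQ hQ w₀, Orth.formQ hQ w])
    have hr := Submodule.finrank_le (LinearMap.range (LinearMap.pi ![Orth.formQ hQ w₀, Orth.formQ hQ w]))
    rw [Module.finrank_fin_fun] at hr
    by_contra hc
    push Not at hc
    have hK : ∀ y ∈ K, Q y = 0 := fun y hy => by
      by_contra hyQ
      have hy' := LinearMap.mem_ker.1 hy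
      exact hc y hyQ (by rw [Orth.pol_comm]; exact congrFun hy' 0) (by rw [Orth.pol_comm]; exact congrFun hy' 1)
    have := Orth.finrank_totally_orth_le hQ (Orth.nondeg_top hQ) (L := K) le_top fun a ha b hb => by
      show QuadraticMap.polar Q a b = 0
      rw [QuadraticMap.polar, hK a ha, hK b hb, hK _ (K.add_mem ha hb), sub_zero, sub_zero]
    rw [finrank_top, Module.finrank_pi] at this
    rw [Module.finrank_pi] at hk
    have := C.h5
    omega
  have h₁ := next' w₀ y hw₀ hyQ hy1 h₀
  have h₂ := next' y w hyQ hw (by rw [Orth.pol_comm]; exact hy2) h₁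
  exact (h₂ ((hPmem w v).2 (by rw [Orth.pol_comm]; exact hwv))).2

/-- A radical element that is not scalar gives all pure singular centres. -/
theorem singular_centre [Finite F] (C : Ctx Q M) {S : (β → F) →ₗ[F] β → F} (hS : Short M S)
    (hns : ∀ k : F, S ≠ k • LinearMap.id) {e : β → F} (he : Q e = 0) :
    vec e 0 ∈ sCentres C.hf M ∧ vec 0 e ∈ sCentres C.hf M := by
  have hQ := C.hQ
  have h2 := C.h2
  have main : vec e 0 ∈ sCentres C.hf M := by
    rcases eq_or_ne e 0 with rfl | he0
    · intro c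
      rw [show stv C.hf (vec (0 : β → F) 0) c = 1 from ext_mv fun x => by
        rw [mv_stv, mv_one, vec_zero, smul_zero, add_zero]]
      exact M.one_mem
    obtain ⟨x, hxQ, hxe⟩ : ∃ x, Q x ≠ 0 ∧ Orth.pol Q x e = 0 := by
      set K := LinearMap.ker (Orth.formQ hQ e)
      by_contra hc
      push Not at hc
      have hK : ∀ y ∈ K, Q y = 0 := fun y hy => by
        by_contra hyQ
        exact hc y hyQ (LinearMap.mem_ker.1 hy)
      have := Orth.finrank_totally_orth_le hQ (Orth.nondeg_top hQ) (L := K) le_top fun a ha b hb => by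
        show QuadraticMap.polar Q a b = 0
        rw [QuadraticMap.polar, hK a ha, hK b hb, hK _ (K.add_mem ha hb), sub_zero, sub_zero]
      have hk : _ + Module.finrank F K = _ := LinearMap.finrank_range_add_finrank_ker (Orth.formQ hQ e)
      have hr := Submodule.finrank_le (LinearMap.range (Orth.formQ hQ e))
      rw [Module.finrank_self] at hr
      rw [finrank_top, Module.finrank_pi] at this
      rw [Module.finrank_pi] at hk
      have := C.h5
      omega
    have hee : Orth.pol Q e e = 0 := by rw [Orth.pol_self hQ, he, mul_zero]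
    have h1 := short_dd C hS hns hxQ (v := e) (by rw [Orth.pol_comm]; exact hxe)
    have h3 := short_dd C hS hns (w := x + e) (v := e) (by rwa [Orth.q_add hQ, he, hxe, add_zero, add_zero])
      (by rw [Orth.pol_add_right hQ, hee, Orth.pol_comm, hxe, add_zero])
    intro c
    obtain ⟨g, hg, hgv⟩ := short_smul C (h3.sub h1) (-c / 2)
    refine (congrArg (· ∈ M) (ext_mv fun z => ?_)).mp hg
    rw [← vec_co z, hgv, mv_stv]
    simp only [frm, co0_vec, co1_vec, Orth.pol_zero_right hQ, LinearMap.smul_apply, LinearMap.sub_apply, dd_apply,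
      Orth.pol_add_right hQ]
    refine co_ext ?_ ?_ <;> simp only [map_add, map_smul, co0_vec, co1_vec, smul_zero, add_zero]
    match_scalars <;> field_simp <;> ring
  refine ⟨main, ?_⟩
  obtain ⟨g, hg, -, hgv⟩ := C.mem_A 0 1 (-1) 0 (by ring)
  have h := sCentres_smul C.hf (sCentres_mv C.hf C.le hg main) (-1)
  rw [hgv, ← vec_smul] at h
  simpa using h

/-- A radical element that is not scalar gives everything. -/
theorem eq_all_of_short [Finite F] (C : Ctx Q M) {S : (β → F) →ₗ[F] β → F} (hS : Short M S)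
    (hns : ∀ k : F, S ≠ k • LinearMap.id) :
    M = preserving (Units.coeHom (Matrix (Fin 2 × β) (Fin 2 × β) F)) (frm Q) := by
  have hQ := C.hQ
  have h2 := C.h2
  have hd : 5 ≤ Module.finrank F (⊤ : Submodule F (β → F)) := by
    rw [finrank_top, Module.finrank_pi]; exact C.h5
  have sing := fun {e : β → F} (he : Q e = 0) => singular_centre C hS hns he
  have add' : ∀ {x y : Fin 2 × β → F}, x ∈ sCentres C.hf M → y ∈ sCentres C.hf M → frm Q x y ≠ 0 →
      x + y ∈ sCentres C.hf M := fun hx hy h => sCentres_add C.hf C.le hx hy h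
  have pure : ∀ x : β → F, vec x 0 ∈ sCentres C.hf M := by
    intro x
    by_cases hx : Q x = 0
    · exact (sing hx).1
    have hx0 : x ≠ 0 := fun h => hx (by rw [h, Orth.q_zero hQ])
    obtain ⟨d, -, hd', hxd⟩ := Orth.exists_singular_not_orth hQ (Orth.nondeg_top hQ) (by omega)
      (Submodule.mem_top (x := x)) hx0
    obtain ⟨e, he_def⟩ : ∃ e, e = (Q x / Orth.pol Q x d) • d := ⟨_, rfl⟩
    have he : Q e = 0 := by rw [he_def, Orth.q_smul hQ, hd', mul_zero]
    have hxe : Orth.pol Q x e = Q x := by rw [he_def, Orth.pol_smul_right hQ, div_mul_cancel₀ _ hxd]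
    obtain ⟨k, hk_def⟩ : ∃ k, k = x - e := ⟨_, rfl⟩
    have hk : Q k = 0 := by rw [hk_def, Orth.q_sub hQ, he, hxe]; ring
    have hek : Orth.pol Q e k = Q x := by
      rw [hk_def, Orth.pol_sub_right hQ, Orth.pol_comm e x, hxe, Orth.pol_self hQ, he, mul_zero, sub_zero]
    set L := LinearMap.ker (LinearMap.pi ![Orth.formQ hQ e, Orth.formQ hQ k]) with hL
    have hL3 : 3 ≤ Module.finrank F L := by
      have h := LinearMap.finrank_range_add_finrank_ker (LinearMap.pi ![Orth.formQ hQ e, Orth.formQ hQ k])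
      have h' := Submodule.finrank_le (LinearMap.range (LinearMap.pi ![Orth.formQ hQ e, Orth.formQ hQ k]))
      rw [Module.finrank_fin_fun] at h'
      rw [Module.finrank_pi, ← hL] at h
      have := C.h5
      omega
    have hLnd : Orth.Nondeg Q L := by
      intro u hu hperp
      by_contra hu0
      obtain ⟨y, hy⟩ := (hQ.nondegenerate u hu0).1
      apply hy
      have hu' := LinearMap.mem_ker.1 hu
      have hue : Orth.pol Q e u = 0 := by rw [Orth.pol_comm]; exact congrFun hu' 0
      have huk : Orth.pol Q k u = 0 := by rw [Orth.pol_comm]; exact congrFun hu' 1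
      have hee : Orth.pol Q e e = 0 := by rw [Orth.pol_self hQ, he, mul_zero]
      have hkk : Orth.pol Q k k = 0 := by rw [Orth.pol_self hQ, hk, mul_zero]
      have := hperp (y - (Orth.pol Q y k / Q x) • e - (Orth.pol Q y e / Q x) • k) (LinearMap.mem_ker.2 (by
        ext i
        fin_cases i <;>
        · show Orth.pol Q _ _ = 0
          rw [Orth.pol_sub_left hQ, Orth.pol_sub_left hQ, Orth.pol_smul_left hQ, Orth.pol_smul_left hQ]
          simp [hee, hkk, hek, Orth.pol_comm k e, hx]))
      rwa [Orth.pol_sub_left hQ, Orth.pol_sub_left hQ, Orth.pol_smul_left hQ, Orth.pol_smul_left hQ, hue, huk,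
        mul_zero, mul_zero, sub_zero, sub_zero] at this
    obtain ⟨z, hz, hzQ⟩ := Orth.exists_value_in hQ hLnd (le_refl L) (by omega) (-Q x)
    have hz' := LinearMap.mem_ker.1 hz
    have hze : Orth.pol Q z e = 0 := congrFun hz' 0
    have hzk : Orth.pol Q z k = 0 := congrFun hz' 1
    set e' := e + k + z with he'_def
    have eez : Orth.pol Q e z = 0 := by rw [Orth.pol_comm]; exact hze
    have ekz : Orth.pol Q k z = 0 := by rw [Orth.pol_comm]; exact hzk
    have hee : Orth.pol Q e e = 0 := by rw [Orth.pol_self hQ, he, mul_zero]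
    have hkk : Orth.pol Q k k = 0 := by rw [Orth.pol_self hQ, hk, mul_zero]
    have he' : Q e' = 0 := by
      rw [he'_def, Orth.q_add hQ, Orth.q_add hQ, Orth.pol_add_left hQ, he, hk, hzQ, hek, eez, ekz]; ring
    have b1 : Orth.pol Q e e' = Q x := by
      rw [he'_def, Orth.pol_add_right hQ, Orth.pol_add_right hQ, hee, hek, eez]; ring
    have b2 : Orth.pol Q k e' = Q x := by
      rw [he'_def, Orth.pol_add_right hQ, Orth.pol_add_right hQ, hkk, Orth.pol_comm k e, hek, ekz]; ring
    have s1 : vec e e' ∈ sCentres C.hf M := by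
      have := add' (sing he).1 (sing he').2 (by
        rw [frm_vec, Orth.pol_zero_left hQ, b1, sub_zero]; exact hx)
      rwa [← vec_add, add_zero, zero_add] at this
    have s2 : vec x e' ∈ sCentres C.hf M := by
      have := add' s1 (sing hk).1 (by
        rw [frm_vec, Orth.pol_zero_right hQ, Orth.pol_comm e' k, b2, zero_sub]; exact neg_ne_zero.2 hx)
      rwa [← vec_add, add_zero, hk_def, add_sub_cancel] at this
    have := add' s2 (sing (show Q (-e') = 0 by rw [Orth.q_neg hQ, he'])).2 (by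
      rw [frm_vec, Orth.pol_zero_right hQ, Orth.pol_neg_right hQ, show x = e + k by rw [hk_def]; abel,
        Orth.pol_add_left hQ, b1, b2, sub_zero, neg_ne_zero, ← two_mul]
      exact mul_ne_zero h2 hx)
    rwa [← vec_add, add_zero, add_neg_cancel] at this
  have pure' : ∀ x : β → F, vec 0 x ∈ sCentres C.hf M := fun x => by
    obtain ⟨g, hg, -, hgv⟩ := C.mem_A 0 1 (-1) 0 (by ring)
    have h := sCentres_smul C.hf (sCentres_mv C.hf C.le hg (pure x)) (-1)
    rw [hgv, ← vec_smul] at h
    simpa using h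
  refine sCentres_eq_univ C.hf C.le fun v => ?_
  rw [← vec_co v]
  set p := co0 v
  set r := co1 v
  rcases eq_or_ne r 0 with hr | hr
  · rw [hr]; exact pure p
  obtain ⟨⟨k, hk⟩, -⟩ := hQ.nondegenerate r hr
  obtain ⟨l, hl0, hl⟩ : ∃ l : F, l ≠ 0 ∧ Orth.pol Q p r + l * Orth.pol Q k r ≠ 0 := by
    by_cases h1 : Orth.pol Q p r + 1 * Orth.pol Q k r = 0
    · exact ⟨-1, neg_ne_zero.2 one_ne_zero, fun h => mul_ne_zero h2 hk (by linear_combination h1 - h)⟩
    · exact ⟨1, one_ne_zero, h1⟩
  have s1 := add' (pure (p + l • k)) (pure' r) (by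
    rw [frm_vec, Orth.pol_zero_left hQ, sub_zero, Orth.pol_add_left hQ, Orth.pol_smul_left hQ]; exact hl)
  rw [← vec_add, add_zero, zero_add] at s1
  have := add' s1 (pure (-(l • k))) (by
    rw [frm_vec, Orth.pol_zero_right hQ, Orth.pol_neg_right hQ, Orth.pol_smul_right hQ, Orth.pol_comm r k,
      zero_sub, neg_neg]
    exact mul_ne_zero hl0 hk)
  rwa [← vec_add, add_zero, add_neg_cancel_right] at this

/-- Outside the whole group the radical members are scalar. -/
theorem short_scalar [Finite F] (C : Ctx Q M)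
    (hne : M ≠ preserving (Units.coeHom (Matrix (Fin 2 × β) (Fin 2 × β) F)) (frm Q))
    {S : (β → F) →ₗ[F] β → F} (hS : Short M S) : ∃ k : F, S = k • LinearMap.id := by
  by_contra h
  push Not at h
  exact hne (eq_all_of_short C hS h)

end Cfsg.Agent.SympOrth
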