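/-
Images of the first line under members of an overgroup: components, stabiliser, a scalar relation.
-/
import Cfsg.Agent.Lib.SympOrth.Span

set_option autoImplicit false
set_option linter.all false

namespace Cfsg.Agent.SympOrth

open scoped Matrix
open Matrix Cfsg.Agent.Transvec Cfsg.Agent.TensorMax
open Cfsg.Agent.TensorMax.U (isKron_mul)

variable {β : Type} [Fintype β] [DecidableEq β] {F : Type*} [Field F]

/-- First component of the image of the first line. -/
def im0 (g : GL (Fin 2 × β) F) : (β → F) →ₗ[F] β → F := co0.comp ((mvLin g).comp inl)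

/-- Second component of the image of the first line. -/
def im1 (g : GL (Fin 2 × β) F) : (β → F) →ₗ[F] β → F := co1.comp ((mvLin g).comp inl)

theorem mv_line (g : GL (Fin 2 × β) F) (p : β → F) : mv g (vec p 0) = vec (im0 g p) (im1 g p) := by
  refine co_ext ?_ ?_ <;> simp [im0, im1, mv]

/-- The vectors whose pure tensors lie in the image of the first line. -/
def meetZ (g : GL (Fin 2 × β) F) : Submodule F (β → F) := LinearMap.ker (im1 g⁻¹)

theorem mem_meetZ {g : GL (Fin 2 × β) F} {p : β → F} : p ∈ meetZ g ↔ im1 g⁻¹ p = 0 := LinearMap.mem_ker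

theorem mem_meetZ_inv {g : GL (Fin 2 × β) F} {p : β → F} : p ∈ meetZ g⁻¹ ↔ im1 g p = 0 := by
  rw [mem_meetZ, inv_inv]

theorem mv_back {g : GL (Fin 2 × β) F} {p : β → F} (hp : im1 g⁻¹ p = 0) :
    mv g (vec (im0 g⁻¹ p) 0) = vec p 0 := by
  have h := mv_line g⁻¹ p
  rw [hp] at h
  rw [← h, mv_mv_inv]

theorem im_back {g : GL (Fin 2 × β) F} {p : β → F} (hp : im1 g⁻¹ p = 0) :
    im0 g (im0 g⁻¹ p) = p ∧ im1 g (im0 g⁻¹ p) = 0 := by
  have h := mv_back hp
  rw [mv_line] at h
  exact ⟨by simpa using congrArg co0 h, by simpa using congrArg co1 h⟩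

theorem finrank_meetZ_le (g : GL (Fin 2 × β) F) :
    Module.finrank F (meetZ g⁻¹) ≤ Module.finrank F (meetZ g) := by
  refine LinearMap.finrank_le_finrank_of_injective
    (f := (im0 g).restrict (p := meetZ g⁻¹) (q := meetZ g) fun q hq => ?_) fun a b hab => ?_
  · rw [mem_meetZ]
    have h := mv_line g q
    rw [mem_meetZ_inv.1 hq] at h
    have h' := congrArg (mv g⁻¹) h
    rw [mv_inv_mv] at h'
    have h2 := congrArg co1 h'
    rw [co1_vec] at h2
    show co1 (mvLin g⁻¹ (inl _)) = 0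
    simpa [mv] using h2.symm
  · refine Subtype.ext ?_
    have h : im0 g (a : β → F) = im0 g (b : β → F) := congrArg Subtype.val hab
    have e := mv_line g (a : β → F)
    rw [mem_meetZ_inv.1 a.2, h, ← mem_meetZ_inv.1 b.2, ← mv_line] at e
    simpa using congrArg co0 (mv_inj g e)

theorem finrank_meetZ (g : GL (Fin 2 × β) F) :
    Module.finrank F (meetZ g⁻¹) = Module.finrank F (meetZ g) := by
  refine le_antisymm (finrank_meetZ_le g) ?_
  have h := finrank_meetZ_le g⁻¹
  rw [inv_inv] at h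
  exact h

variable {Q : (β → F) → F} {M : Subgroup (GL (Fin 2 × β) F)}

theorem pol_im1 (C : Ctx Q M) {g : GL (Fin 2 × β) F} (hg : g ∈ M) (p q : β → F) :
    Orth.pol Q q (im1 g⁻¹ p) = -Orth.pol Q (im1 g q) p := by
  have h := C.iso_inv hg (vec q 0) (vec p 0)
  rw [mv_line, mv_line, frm_vec, frm_vec, Orth.pol_zero_right C.hQ, Orth.pol_zero_left C.hQ, sub_zero] at h
  rw [← h, zero_sub]

theorem pol_im0 (C : Ctx Q M) {g : GL (Fin 2 × β) F} (hg : g ∈ M) (r q : β → F) :
    Orth.pol Q q (co1 (mv g⁻¹ (vec 0 r))) = Orth.pol Q (im0 g q) r := by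
  have h := C.iso_inv hg (vec q 0) (vec 0 r)
  rw [mv_line, ← vec_co (mv g⁻¹ (vec 0 r)), frm_vec, frm_vec, Orth.pol_zero_right C.hQ, Orth.pol_zero_left C.hQ,
    sub_zero, sub_zero] at h
  exact h.symm

theorem im1_orth (C : Ctx Q M) {g : GL (Fin 2 × β) F} (hg : g ∈ M) {q : β → F} (hq : q ∈ meetZ g⁻¹) (p : β → F) :
    Orth.pol Q q (im1 g⁻¹ p) = 0 := by
  rw [pol_im1 C hg, mem_meetZ_inv.1 hq, Orth.pol_zero_left C.hQ, neg_zero]

theorem finrank_orth_meetZ (C : Ctx Q M) (g : GL (Fin 2 × β) F) :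
    Module.finrank F (meetZ g) + Module.finrank F (Orth.orth C.hQ (meetZ g)) ≤ Fintype.card β := by
  have := Orth.finrank_add_le_of_orth C.hQ (Orth.nondeg_top C.hQ) (L := meetZ g) (R := Orth.orth C.hQ (meetZ g))
    le_top le_top fun x hx y hy => hy x hx
  rwa [finrank_top, Module.finrank_pi] at this

/-- The range of the second component is the orthogonal of the meet. -/
theorem range_im1 (C : Ctx Q M) {g : GL (Fin 2 × β) F} (hg : g ∈ M) :
    LinearMap.range (im1 g⁻¹) = Orth.orth C.hQ (meetZ g⁻¹) := by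
  refine Submodule.eq_of_le_of_finrank_le ?_ ?_
  · rintro _ ⟨p, rfl⟩ q hq
    exact im1_orth C hg hq p
  · have h1 := finrank_orth_meetZ C g⁻¹
    have h2 := LinearMap.finrank_range_add_finrank_ker (im1 g⁻¹)
    rw [Module.finrank_pi] at h2
    have h3 := finrank_meetZ g
    have h4 : Module.finrank F (LinearMap.ker (im1 g⁻¹)) = Module.finrank F (meetZ g) := rfl
    omega

/-- The conjugate of the transvections of the first factor. -/
theorem conj_up (C : Ctx Q M) {g : GL (Fin 2 × β) F} (hg : g ∈ M) (k : F) :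
    ∃ x ∈ M, ∀ y, mv x y = y + k • vec (im0 g (co1 (mv g⁻¹ y))) (im1 g (co1 (mv g⁻¹ y))) := by
  obtain ⟨t, ht, -, htv⟩ := C.mem_A 1 k 0 1 (by ring)
  refine ⟨g * t * g⁻¹, M.mul_mem (M.mul_mem hg ht) (M.inv_mem hg), fun y => ?_⟩
  obtain ⟨z, rfl⟩ : ∃ z, y = mv g z := ⟨mv g⁻¹ y, (mv_mv_inv g y).symm⟩
  rw [mv_mul, mv_mul, mv_inv_mv, ← mv_line]
  conv_lhs => rw [← vec_co z, htv]
  rw [← mv_smul, ← mv_add]
  congr 1
  refine co_ext ?_ ?_ <;> simp

/-- A member stabilising the first line is a Kronecker product. -/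
theorem stab_line [Finite F] (C : Ctx Q M)
    (hne : M ≠ preserving (Units.coeHom (Matrix (Fin 2 × β) (Fin 2 × β) F)) (frm Q))
    {g : GL (Fin 2 × β) F} (hg : g ∈ M) (h1 : im1 g = 0) :
    IsKron g ∧ ∃ μ k : F, μ ≠ 0 ∧ (∀ p p', Orth.pol Q (im0 g p) (im0 g p') = μ * Orth.pol Q p p') ∧
      ∀ r, mv g (vec 0 r) = vec (k • im0 g r) (μ⁻¹ • im0 g r) := by
  have hQ := C.hQ
  set G := im0 g with hG
  have hline : ∀ p, mv g (vec p 0) = vec (G p) 0 := fun p => by rw [mv_line, h1]; rfl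
  have hinj : Function.Injective G := fun a b hab => by
    have := hline a
    rw [hab, ← hline] at this
    simpa using congrArg co0 (mv_inj g this)
  have hsurj : Function.Surjective G := LinearMap.surjective_of_injective hinj
  have hback : im1 g⁻¹ = 0 := LinearMap.ext fun p => by
    obtain ⟨q, rfl⟩ := hsurj p
    have := congrArg (mv g⁻¹) (hline q)
    rw [mv_inv_mv, mv_line] at this
    simpa using (congrArg co1 this).symm
  obtain ⟨x, hx, hxy⟩ := conj_up C hg 1
  set G' : (β → F) →ₗ[F] β → F := co1.comp ((mvLin g⁻¹).comp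
    ((LinearMap.id : (Fin 2 × β → F) →ₗ[F] _).comp
      { toFun := fun r => vec 0 r
        map_add' := fun a b => by rw [← vec_add, add_zero]
        map_smul' := fun a b => by rw [RingHom.id_apply, ← vec_smul, smul_zero] })) with hG'
  have hG'v : ∀ r, G' r = co1 (mv g⁻¹ (vec 0 r)) := fun r => by simp [hG', mv]
  have hshort : Short M (G.comp G') := ⟨x, hx, fun p r => by
    have e : co1 (mv g⁻¹ (vec p r)) = G' r := by
      rw [hG'v, show vec p r = vec p 0 + vec 0 r by rw [← vec_add, add_zero, zero_add], mv_add, map_add,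
        show co1 (mv g⁻¹ (vec p 0)) = im1 g⁻¹ p by rw [mv_line, co1_vec], hback]
      simp
    rw [hxy, e, h1, one_smul, LinearMap.zero_apply, ← vec_add, add_zero]
    rfl⟩
  obtain ⟨μ, hμ⟩ := short_scalar C hne hshort
  have hμ' : ∀ r, G (G' r) = μ • r := fun r => LinearMap.congr_fun hμ r
  have hadj : ∀ p r, Orth.pol Q (G p) r = Orth.pol Q p (G' r) := fun p r => by
    rw [hG'v, pol_im0 C hg]
  have hGO : ∀ p p', Orth.pol Q (G p) (G p') = μ * Orth.pol Q p p' := fun p p' => by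
    rw [hadj, show G' (G p') = μ • p' from hinj (by rw [hμ', map_smul]), Orth.pol_smul_right hQ]
  have hμ0 : μ ≠ 0 := by
    intro h
    haveI := C.nonempty
    obtain ⟨i⟩ := C.nonempty
    set p : β → F := Pi.single i 1 with hp
    have hp0 : G p ≠ 0 := fun h' => by
      have := hinj (h'.trans (map_zero G).symm)
      simpa [hp] using congrFun this i
    obtain ⟨y, hy⟩ := (hQ.nondegenerate _ hp0).2
    obtain ⟨p', rfl⟩ := hsurj y
    exact hy (by show Orth.pol Q (G p) (G p') = 0; rw [hGO, h, zero_mul])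
  set Gm : GL β F := Matrix.GeneralLinearGroup.mkOfDetNeZero (LinearMap.toMatrix' G) (by
    rw [LinearMap.det_toMatrix']
    exact ((LinearEquiv.ofBijective G ⟨hinj, hsurj⟩).isUnit_det').ne_zero) with hGm
  have hGmv : ∀ p, mv Gm p = G p := fun p => by
    show LinearMap.toMatrix' G *ᵥ p = G p
    rw [LinearMap.toMatrix'_mulVec]
  obtain ⟨h, hh, hhk, hhv⟩ := C.mem_blk 1 0 0 μ⁻¹ μ Gm (fun p p' => by rw [hGmv, hGmv, hGO])
    (by field_simp; ring)
  simp only [hGmv, one_smul, zero_smul, add_zero, zero_add] at hhv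
  have hn : h⁻¹ * g ∈ M := M.mul_mem (M.inv_mem hh) hg
  have hfix : ∀ p, mv (h⁻¹ * g) (vec p 0) = vec p 0 := fun p => mv_inj h (by
    rw [mv_mul, mv_mv_inv, hline, hhv, map_zero, smul_zero])
  set H : (β → F) →ₗ[F] β → F := co0.comp ((mvLin (h⁻¹ * g)).comp
      ({ toFun := fun r => vec 0 r
         map_add' := fun a b => by rw [← vec_add, add_zero]
         map_smul' := fun a b => by rw [RingHom.id_apply, ← vec_smul, smul_zero] })) with hH
  have hHv : ∀ r, mv (h⁻¹ * g) (vec 0 r) = vec (H r) r := fun r => by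
    refine co_ext (by simp [hH, mv]) ?_
    rw [co1_vec]
    by_contra hne'
    obtain ⟨y, hy⟩ := (hQ.nondegenerate _ (sub_ne_zero.2 hne')).1
    apply hy
    have := C.iso hn (vec y 0) (vec 0 r)
    rw [hfix, ← vec_co (mv (h⁻¹ * g) (vec 0 r)), frm_vec, frm_vec, Orth.pol_zero_left hQ, Orth.pol_zero_left hQ,
      sub_zero, sub_zero] at this
    show Orth.pol Q y _ = 0
    rw [Orth.pol_sub_right hQ, this, sub_self]
  obtain ⟨k, hk⟩ := short_scalar C hne (S := H) ⟨_, hn, fun p r => by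
    rw [show vec p r = vec p 0 + vec 0 r by rw [← vec_add, add_zero, zero_add], mv_add, hfix, hHv, ← vec_add,
      zero_add]⟩
  obtain ⟨t, ht, htk, htv⟩ := C.mem_A 1 k 0 1 (by ring)
  have heq : g = h * t := by
    refine ext_mv fun y => ?_
    rw [show g = h * (h⁻¹ * g) by group, mv_mul, mv_mul h t]
    congr 1
    rw [← vec_co y, show vec (co0 y) (co1 y) = vec (co0 y) 0 + vec 0 (co1 y) by rw [← vec_add, add_zero, zero_add],
      mv_add, mv_add, hfix, hHv, htv, htv, hk]
    simp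
  refine ⟨heq ▸ isKron_mul hhk htk, μ, k, hμ0, hGO, fun r => ?_⟩
  rw [show g = h * (h⁻¹ * g) by group, mv_mul, hHv, hhv, hk]
  simp

/-- Non-degenerate meets carry a similitude. -/
theorem similitude [Finite F] (C : Ctx Q M)
    (hne : M ≠ preserving (Units.coeHom (Matrix (Fin 2 × β) (Fin 2 × β) F)) (frm Q))
    {g : GL (Fin 2 × β) F} (hg : g ∈ M) (hZ : Orth.Nondeg Q (meetZ g))
    (hd : 3 ≤ Module.finrank F (meetZ g)) :
    ∃ c : F, c ≠ 0 ∧ ∀ p : β → F, ∀ z ∈ meetZ g, Orth.pol Q (im0 g p) z = c * Orth.pol Q p (im0 g⁻¹ z) := by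
  have hQ := C.hQ
  have h2 := C.h2
  have hperp : ∀ p : β → F, ∀ z ∈ meetZ g, Orth.pol Q (im1 g p) z = 0 := fun p z hz => by
    have h := im1_orth C (M.inv_mem hg) (q := z) (by rwa [inv_inv]) p
    rwa [inv_inv, Orth.pol_comm] at h
  have one : ∀ z ∈ meetZ g, Q z ≠ 0 → Q (im0 g⁻¹ z) ≠ 0 ∧
      ∀ p, Orth.pol Q (im0 g p) z * Q (im0 g⁻¹ z) = Q z * Orth.pol Q p (im0 g⁻¹ z) := by
    intro z hz hzQ
    set ζ := im0 g⁻¹ z with hζ
    obtain ⟨R, hR, hRv⟩ := C.mem_refl hzQ
    set y := g⁻¹ * R * g with hy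
    have hyM : y ∈ M := M.mul_mem (M.mul_mem (M.inv_mem hg) hR) hg
    set k : (β → F) →ₗ[F] F := (Q z)⁻¹ • (Orth.formQ hQ z).comp (im0 g) with hk
    have hkv : ∀ p, k p = Orth.pol Q (im0 g p) z / Q z := fun p => by
      simp [hk, Orth.formQ_apply, div_eq_inv_mul]
    have hζz : mv g (vec ζ 0) = vec z 0 := mv_back (mem_meetZ.1 hz)
    have hyv : ∀ p, mv y (vec p 0) = vec (p - k p • ζ) 0 := by
      intro p
      refine mv_inj g ?_
      rw [hy, mv_mul, mv_mul, mv_mv_inv, mv_line, hRv, hperp p z hz, zero_div, zero_smul, sub_zero, ← hkv,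
        show vec (p - k p • ζ) 0 = vec p 0 - k p • vec ζ 0 by
          refine co_ext ?_ ?_ <;> simp,
        mv_sub, mv_smul, hζz, mv_line]
      refine co_ext ?_ ?_ <;> simp
    have hy1 : im1 y = 0 := LinearMap.ext fun p => by
      have := congrArg co1 (hyv p)
      rw [mv_line, co1_vec, co1_vec] at this
      exact this
    have hy0 : ∀ p, im0 y p = p - k p • ζ := fun p => by
      have := congrArg co0 (hyv p)
      rwa [mv_line, co0_vec, co0_vec] at this
    obtain ⟨-, μ, -, -, hμ, -⟩ := stab_line C hne hyM hy1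
    simp only [hy0] at hμ
    have hμ1 : μ = 1 := by
      obtain ⟨a, ha, b, hb, hab⟩ : ∃ a, k a = 0 ∧ ∃ b, k b = 0 ∧ Orth.pol Q a b ≠ 0 := by
        by_contra hc
        push Not at hc
        have := Orth.finrank_totally_orth_le hQ (Orth.nondeg_top hQ) (L := LinearMap.ker k) le_top
          fun a ha b hb => hc a (LinearMap.mem_ker.1 ha) b (LinearMap.mem_ker.1 hb)
        have h1 := LinearMap.finrank_range_add_finrank_ker k
        have h2 := Submodule.finrank_le (LinearMap.range k)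
        rw [Module.finrank_self] at h2
        rw [finrank_top, Module.finrank_pi] at this
        rw [Module.finrank_pi] at h1
        have := C.h5
        omega
      have := hμ a b
      simp only [ha, hb, zero_smul, sub_zero] at this
      exact mul_right_cancel₀ hab (by linear_combination -this)
    have hkζ : k ζ = 2 := by
      rw [hkv, (im_back (mem_meetZ.1 hz)).1, Orth.pol_self hQ]
      field_simp
    have key : ∀ p, k p * Q ζ = Orth.pol Q p ζ := fun p => by
      have := hμ p ζ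
      rw [hμ1, hkζ, Orth.pol_sub_left hQ, Orth.pol_sub_right hQ, Orth.pol_sub_right hQ, Orth.pol_smul_left hQ,
        Orth.pol_smul_left hQ, Orth.pol_smul_right hQ, Orth.pol_smul_right hQ, Orth.pol_self hQ ζ] at this
      apply mul_left_cancel₀ h2
      linear_combination this
    refine ⟨fun h => ?_, fun p => ?_⟩
    · have hζ0 : ζ ≠ 0 := fun h0 => hzQ (by
        rw [h0, vec_zero, mv_zero] at hζz
        rw [show z = 0 by simpa using (congrArg co0 hζz).symm, Orth.q_zero hQ])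
      obtain ⟨x, hx⟩ := (hQ.nondegenerate ζ hζ0).1
      exact hx (by show Orth.pol Q x ζ = 0; rw [← key, h, mul_zero])
    · rw [← key, hkv]
      field_simp
  have hZ0 : meetZ g ≠ ⊥ := fun h => by rw [h, finrank_bot] at hd; omega
  obtain ⟨z₁, hz₁, hz₁Q⟩ := Orth.exists_anisotropic hQ hZ hZ0
  set c := Q z₁ / Q (im0 g⁻¹ z₁) with hc
  have step : ∀ z ∈ meetZ g, ∀ z' ∈ meetZ g, Q z ≠ 0 → Q z' ≠ 0 → Orth.pol Q z z' ≠ 0 →
      Q z / Q (im0 g⁻¹ z) = Q z' / Q (im0 g⁻¹ z') := by
    intro z hz z' hz' hzQ hz'Q hb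
    obtain ⟨a1, a2⟩ := one z hz hzQ
    obtain ⟨b1, b2⟩ := one z' hz' hz'Q
    have e1 := a2 (im0 g⁻¹ z')
    have e2 := b2 (im0 g⁻¹ z)
    rw [(im_back (mem_meetZ.1 hz')).1, Orth.pol_comm z'] at e1
    rw [(im_back (mem_meetZ.1 hz)).1, Orth.pol_comm (im0 g⁻¹ z)] at e2
    have e3 : Orth.pol Q (im0 g⁻¹ z') (im0 g⁻¹ z) ≠ 0 := fun h => by
      rw [h, mul_zero] at e1
      exact mul_ne_zero hb a1 e1
    rw [div_eq_div_iff a1 b1]
    exact mul_right_cancel₀ e3 (by linear_combination (Q (im0 g⁻¹ z)) * e2 - (Q (im0 g⁻¹ z')) * e1)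
  refine ⟨c, div_ne_zero hz₁Q (one z₁ hz₁ hz₁Q).1, fun p z hz => ?_⟩
  have hle : meetZ g ≤ LinearMap.ker ((Orth.formQ hQ (im0 g p)) - c • (Orth.formQ hQ p).comp (im0 g⁻¹)) :=
    forall_of_nonsing hQ h2 hZ fun z hz hzQ => by
      obtain ⟨y, hy, hyQ, hy1, hy2⟩ := exists_connect hQ h2 hZ hd hz₁ hz hz₁Q hzQ
      obtain ⟨a1, a2⟩ := one z hz hzQ
      rw [LinearMap.mem_ker, LinearMap.sub_apply, LinearMap.smul_apply, LinearMap.comp_apply, Orth.formQ_apply,
        Orth.formQ_apply, smul_eq_mul, Orth.pol_comm z, Orth.pol_comm (im0 g⁻¹ z), hc,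
        step z₁ hz₁ y hy hz₁Q hyQ hy1, ← step z hz y hy hzQ hyQ hy2, sub_eq_zero, div_mul_eq_mul_div,
        eq_div_iff a1]
      exact a2 p
  have := hle hz
  rw [LinearMap.mem_ker, LinearMap.sub_apply, LinearMap.smul_apply, LinearMap.comp_apply, Orth.formQ_apply,
    Orth.formQ_apply, smul_eq_mul, sub_eq_zero] at this
  rw [Orth.pol_comm, this, Orth.pol_comm]

end Cfsg.Agent.SympOrth
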