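/-
Outside the Kronecker products some member meets the first line in a non-degenerate hyperplane.
-/
import Cfsg.Agent.Lib.SympOrth.Stab

set_option autoImplicit false
set_option linter.all false

namespace Cfsg.Agent.SympOrth

open scoped Matrix
open Matrix Cfsg.Agent.Transvec Cfsg.Agent.TensorMax
open Cfsg.Agent.TensorMax.U (isKron_mul isKron_inv)

variable {β : Type} [Fintype β] [DecidableEq β] {F : Type*} [Field F] [Finite F]
variable {Q : (β → F) → F} {M : Subgroup (GL (Fin 2 × β) F)}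

/-- A member whose meet is a proper subspace of codimension at most two. -/
def Near (M : Subgroup (GL (Fin 2 × β) F)) (g : GL (Fin 2 × β) F) : Prop :=
  g ∈ M ∧ Fintype.card β ≤ Module.finrank F (meetZ g) + 2 ∧ Module.finrank F (meetZ g) < Fintype.card β

theorem near_inv {g : GL (Fin 2 × β) F} (h : Near M g) : Near M g⁻¹ := by
  rw [Near, finrank_meetZ]
  exact ⟨M.inv_mem h.1, h.2⟩

/-- Degenerate meets grow. -/
theorem grow (C : Ctx Q M)
    (hne : M ≠ preserving (Units.coeHom (Matrix (Fin 2 × β) (Fin 2 × β) F)) (frm Q))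
    {g : GL (Fin 2 × β) F} (hg : Near M g)
    {ζ : β → F} (hζ : ζ ∈ meetZ g⁻¹) (hζ0 : ζ ≠ 0) (hperp : ∀ q ∈ meetZ g⁻¹, Orth.pol Q q ζ = 0) :
    ∃ h, Near M h ∧ Module.finrank F (meetZ g) < Module.finrank F (meetZ h) := by
  have hQ := C.hQ
  obtain ⟨x, hx, hxv⟩ := conj_up C hg.1 1
  obtain ⟨x', hx', hx'v⟩ := conj_up C hg.1 (-1)
  simp only [one_smul] at hxv
  have hinv : x⁻¹ = x' := by
    refine inv_eq_of_mul_eq_one_right (ext_mv fun y => ?_)
    have hco : co1 (mv g⁻¹ (mv x' y)) = co1 (mv g⁻¹ y) := by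
      rw [hx'v, mv_add, mv_smul, ← mv_line, mv_inv_mv, map_add, map_smul, co1_vec, smul_zero, add_zero]
    rw [mv_mul, hxv, hco, hx'v, mv_one]
    module
  set N := im1 g⁻¹ with hN
  have hx1 : ∀ p, mv x' (vec p 0) = vec (p - im0 g (N p)) (-im1 g (N p)) := fun p => by
    rw [hx'v, show co1 (mv g⁻¹ (vec p 0)) = N p by rw [mv_line, co1_vec]]
    refine co_ext ?_ ?_ <;> simp [sub_eq_add_neg]
  have hmem : ∀ p, p ∈ meetZ x ↔ im1 g (N p) = 0 := fun p => by
    rw [mem_meetZ, hinv]
    have := congrArg co1 (hx1 p)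
    rw [mv_line, co1_vec, co1_vec] at this
    rw [this, neg_eq_zero]
  have hle : meetZ g ≤ meetZ x := fun p hp => (hmem p).2 (by rw [hN, mem_meetZ.1 hp, map_zero])
  have hlt : meetZ g < meetZ x := by
    refine lt_of_le_of_ne hle fun he => ?_
    obtain ⟨p, hp⟩ : ζ ∈ LinearMap.range (im1 g⁻¹) := by
      rw [range_im1 C hg.1]
      exact fun q hq => hperp q hq
    have : p ∈ meetZ x := (hmem p).2 (by rw [hN, hp]; exact mem_meetZ_inv.1 hζ)
    rw [← he, mem_meetZ, hp] at this
    exact hζ0 this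
  refine ⟨x, ⟨hx, ?_, ?_⟩, Submodule.finrank_lt_finrank_of_lt hlt⟩
  · have := Submodule.finrank_lt_finrank_of_lt hlt; have := hg.2.1; omega
  by_contra hfull
  push Not at hfull
  have htop : meetZ x = ⊤ := Submodule.eq_top_of_finrank_eq (le_antisymm
    (Submodule.finrank_le _) (by rwa [Module.finrank_pi]))
  have hall : ∀ p, im1 g (N p) = 0 := fun p => (hmem p).1 (htop ▸ Submodule.mem_top)
  have hx'1 : im1 x' = 0 := LinearMap.ext fun p => by
    have := congrArg co1 (hx1 p)
    rw [mv_line, co1_vec, co1_vec, hall, neg_zero] at this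
    exact this
  obtain ⟨-, μ, k, hμ0, hμ, hv⟩ := stab_line C hne hx' hx'1
  set T := (im0 g).comp N with hT
  have hG : ∀ p, im0 x' p = p - T p := fun p => by
    have := congrArg co0 (hx1 p)
    rwa [mv_line, co0_vec, co0_vec] at this
  simp only [hG] at hμ hv
  have hTZ : ∀ p ∈ meetZ g, T p = 0 := fun p hp => by simp [hT, hN, mem_meetZ.1 hp]
  have hμ1 : μ = 1 := by
    obtain ⟨a, ha, b, hb, hab⟩ : ∃ a ∈ meetZ g, ∃ b ∈ meetZ g, Orth.pol Q a b ≠ 0 := by
      by_contra hc
      push Not at hc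
      have := Orth.finrank_totally_orth_le hQ (Orth.nondeg_top hQ) (L := meetZ g) le_top hc
      rw [finrank_top, Module.finrank_pi] at this
      have := hg.2.1
      have := C.h5
      omega
    have := hμ a b
    rw [hTZ a ha, hTZ b hb, sub_zero, sub_zero] at this
    exact mul_right_cancel₀ hab (by linear_combination -this)
  subst hμ1
  -- the displacement
  set D : (Fin 2 × β → F) →ₗ[F] Fin 2 × β → F := LinearMap.id - mvLin x' with hD
  have hDv : ∀ y, D y = mv g (vec (co1 (mv g⁻¹ y)) 0) := fun y => by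
    rw [hD, LinearMap.sub_apply, LinearMap.id_apply, Matrix.toLin'_apply]
    show y - mv x' y = _
    rw [hx'v, mv_line]
    module
  have hDD : ∀ y, D (D y) = 0 := fun y => by
    rw [hDv (D y), hDv y, mv_inv_mv, co1_vec, vec_zero, mv_zero]
  have hDf : ∀ p r, D (vec p r) = vec (T p - k • (r - T r)) (T r) := fun p r => by
    rw [hD, LinearMap.sub_apply, LinearMap.id_apply, Matrix.toLin'_apply]
    show _ - mv x' (vec p r) = _
    rw [show vec p r = vec p 0 + vec 0 r by rw [← vec_add, add_zero, zero_add], mv_add, mv_line, hx'1, hv, hG]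
    refine co_ext ?_ ?_ <;> simp <;> abel
  have hT2 : ∀ r, T (T r) = 0 := fun r => by
    have := congrArg co1 (hDD (vec 0 r))
    rwa [hDf, hDf, co1_vec, map_zero] at this
  have hTne : ∃ r, T r ≠ 0 := by
    by_contra hc
    push Not at hc
    have h1 : im1 g = 0 := LinearMap.ext fun q => by
      have e : D (mv g (vec 0 q)) = mv g (vec q 0) := by rw [hDv, mv_inv_mv, co1_vec]
      rw [← vec_co (mv g (vec 0 q)), hDf, hc, mv_line, hc] at e
      simpa using (congrArg co1 e).symm
    have : (⊤ : Submodule F (β → F)) ≤ meetZ g⁻¹ := fun q _ => mem_meetZ_inv.2 (by rw [h1]; rfl)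
    have := Submodule.finrank_mono this
    rw [finrank_top, Module.finrank_pi, finrank_meetZ] at this
    have := hg.2.2
    omega
  have hk : k = 0 := by
    obtain ⟨r, hr⟩ := hTne
    have := congrArg co0 (hDD (vec 0 r))
    rw [hDf, hDf, co0_vec, map_zero, map_zero, zero_sub, hT2, map_neg, map_smul, map_sub, hT2, sub_zero] at this
    have h' : (2 * k) • T r = 0 := by linear_combination (norm := module) -this
    rcases smul_eq_zero.1 h' with h'' | h''
    · exact (mul_eq_zero.1 h'').resolve_left C.h2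
    · exact absurd h'' hr
  -- the residual space is too small
  have hsurj : ∀ q, mv g (vec q 0) ∈ LinearMap.range D := fun q => ⟨mv g (vec 0 q), by
    rw [hDv, mv_inv_mv, co1_vec]⟩
  set E := (LinearMap.range T) with hE
  let Φ : (β → F) →ₗ[F] E × E :=
    LinearMap.prod ((im0 g).codRestrict E fun q => by
        obtain ⟨y, hy⟩ := hsurj q
        rw [← vec_co y, hDf, hk, zero_smul, sub_zero, mv_line] at hy
        exact ⟨co0 y, by simpa using congrArg co0 hy⟩)
      ((im1 g).codRestrict E fun q => by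
        obtain ⟨y, hy⟩ := hsurj q
        rw [← vec_co y, hDf, mv_line] at hy
        exact ⟨co1 y, by simpa using congrArg co1 hy⟩)
  have hΦ : Function.Injective Φ := fun a b hab => by
    have h0 : im0 g a = im0 g b := congrArg (fun v : E × E => (v.1 : β → F)) hab
    have h1 : im1 g a = im1 g b := congrArg (fun v : E × E => (v.2 : β → F)) hab
    have e := mv_line g a
    rw [h0, h1, ← mv_line] at e
    simpa using congrArg co0 (mv_inj g e)
  have h1 := LinearMap.finrank_le_finrank_of_injective hΦ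
  rw [Module.finrank_prod, Module.finrank_pi] at h1
  have h2 : Module.finrank F E ≤ Module.finrank F (LinearMap.range N) := by
    rw [hE, hT, LinearMap.range_comp]
    exact Submodule.finrank_map_le _ _
  have h3 := LinearMap.finrank_range_add_finrank_ker N
  rw [Module.finrank_pi] at h3
  have h4 : Module.finrank F (LinearMap.ker N) = Module.finrank F (meetZ g) := rfl
  have := hg.2.1
  have := C.h5
  omega

/-- The radical of a degenerate subspace. -/
theorem exists_radical {Z : Submodule F (β → F)} (h : ¬ Orth.Nondeg Q Z) :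
    ∃ ζ ∈ Z, ζ ≠ 0 ∧ ∀ q ∈ Z, Orth.pol Q q ζ = 0 := by
  simp only [Orth.Nondeg, not_forall] at h
  obtain ⟨ζ, hζ, hperp, hne⟩ := h
  exact ⟨ζ, hζ, hne, hperp⟩

/-- Non-degenerate meets make degenerate ones. -/
theorem spoil (C : Ctx Q M)
    (hne : M ≠ preserving (Units.coeHom (Matrix (Fin 2 × β) (Fin 2 × β) F)) (frm Q))
    {g : GL (Fin 2 × β) F} (hg : Near M g) (hZ : Orth.Nondeg Q (meetZ g)) :
    ∃ h, Near M h ∧ ∃ ζ ∈ meetZ h⁻¹, ζ ≠ 0 ∧ ∀ q ∈ meetZ h⁻¹, Orth.pol Q q ζ = 0 := by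
  have hQ := C.hQ
  have h5 := C.h5
  have hd : 3 ≤ Module.finrank F (meetZ g) := by have := hg.2.1; omega
  obtain ⟨c, hc0, hc⟩ := similitude C hne hg.1 hZ hd
  have hperp : ∀ p : β → F, ∀ z ∈ meetZ g, Orth.pol Q (im1 g p) z = 0 := fun p z hz => by
    have h := im1_orth C (M.inv_mem hg.1) (q := z) (by rwa [inv_inv]) p
    rwa [inv_inv, Orth.pol_comm] at h
  obtain ⟨e, he, he0, hee⟩ := Orth.exists_singular hQ hd
  obtain ⟨a, ha, ha0⟩ : ∃ a ∈ Orth.orth hQ (meetZ g), a ≠ 0 := by
    refine (Orth.orth hQ (meetZ g)).ne_bot_iff.1 fun h => ?_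
    have := range_im1 C (M.inv_mem hg.1)
    rw [inv_inv, h, LinearMap.range_eq_bot] at this
    have h' : (⊤ : Submodule F (β → F)) ≤ meetZ g⁻¹ := fun q _ => mem_meetZ_inv.2 (by rw [this]; rfl)
    have := Submodule.finrank_mono h'
    rw [finrank_top, Module.finrank_pi, finrank_meetZ] at this
    have := hg.2.2
    omega
  have haZ : a ∉ meetZ g := fun h => ha0 (hZ a h fun w hw => ha w hw)
  obtain ⟨E, hE, hEv⟩ := C.mem_siegel hee (ha e he)
  set ε := im0 g⁻¹ e with hε
  have hεv : mv g (vec ε 0) = vec e 0 := mv_back (mem_meetZ.1 he)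
  set h := g⁻¹ * E * g with hh
  have hhM : h ∈ M := M.mul_mem (M.mul_mem (M.inv_mem hg.1) hE) hg.1
  have hce : ∀ p, Orth.pol Q (im1 g p) e = 0 := fun p => hperp p e he
  set φ : Fin 2 → Module.Dual F (β → F) :=
    ![(Orth.formQ hQ e).comp (im0 g), (Orth.formQ hQ a).comp (im1 g)] with hφ
  -- the vectors where both functionals vanish
  have inside : ∀ p, Orth.pol Q (im0 g p) e = 0 → Orth.pol Q (im1 g p) a = 0 → p ∈ meetZ h⁻¹ := by
    intro p h1 h2
    have : mv h (vec p 0) = vec (p - Orth.pol Q (im0 g p) a • ε) 0 := mv_inj g (by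
      rw [hh, mv_mul, mv_mul, mv_mv_inv, mv_line, hEv, h1, h2, hce,
        show vec (p - Orth.pol Q (im0 g p) a • ε) 0 = vec p 0 - Orth.pol Q (im0 g p) a • vec ε 0 by
          refine co_ext ?_ ?_ <;> simp,
        mv_sub, mv_smul, hεv, mv_line]
      refine co_ext ?_ ?_ <;> simp)
    rw [mem_meetZ_inv]
    have e' := congrArg co1 this
    rwa [mv_line, co1_vec, co1_vec] at e'
  have outside : ∀ p ∈ meetZ h⁻¹, Orth.pol Q (im0 g p) e = 0 := by
    intro p hp
    obtain ⟨p', hp'⟩ : ∃ p', mv h (vec p 0) = vec p' 0 :=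
      ⟨im0 h p, by rw [mv_line, mem_meetZ_inv.1 hp]⟩
    have e' := congrArg (mv g) hp'
    rw [hh, mv_mul, mv_mul, mv_mv_inv, mv_line, hEv, mv_line, hce] at e'
    have c1 := congrArg co1 e'
    have c0 := congrArg co0 e'
    simp only [co1_vec, co0_vec, zero_smul, add_zero, mul_zero] at c1 c0
    have hca : Orth.pol Q (im1 g p) a = 0 := by
      obtain ⟨y, hy, hye⟩ : ∃ y ∈ meetZ g, Orth.pol Q y e ≠ 0 := by
        by_contra hcc
        push Not at hcc
        exact he0 (hZ e he hcc)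
      have := congrArg (fun v => Orth.pol Q v y) c1
      simp only [Orth.pol_sub_left hQ, Orth.pol_smul_left hQ, hperp p y hy, hperp p' y hy, zero_sub,
        neg_eq_zero] at this
      rcases mul_eq_zero.1 this with h' | h'
      · exact h'
      · exact absurd (by rw [Orth.pol_comm]; exact h') hye
    rw [hca, zero_smul, sub_zero] at c1
    have hdiff : p' - p ∈ meetZ g⁻¹ := mem_meetZ_inv.2 (by rw [map_sub, c1, sub_self])
    have hmem : im0 g (p' - p) ∈ meetZ g := by
      rw [mem_meetZ]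
      have h1 := mv_line g (p' - p)
      rw [mem_meetZ_inv.1 hdiff] at h1
      have h2 := congrArg co1 (congrArg (mv g⁻¹) h1)
      rw [mv_inv_mv, co1_vec, mv_line, co1_vec] at h2
      exact h2.symm
    rw [map_sub, ← c0] at hmem
    by_contra hb
    refine haZ ?_
    have h2 := (meetZ g).add_mem hmem ((meetZ g).smul_mem (Orth.pol Q (im0 g p) a + Q a * Orth.pol Q (im0 g p) e) he)
    have h3 := (meetZ g).smul_mem (Orth.pol Q (im0 g p) e)⁻¹ h2
    have h4 : im0 g p + Orth.pol Q (im0 g p) e • a - (Orth.pol Q (im0 g p) a + Q a * Orth.pol Q (im0 g p) e) • e -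
        im0 g p + (Orth.pol Q (im0 g p) a + Q a * Orth.pol Q (im0 g p) e) • e = Orth.pol Q (im0 g p) e • a := by
      abel
    rwa [h4, smul_smul, inv_mul_cancel₀ hb, one_smul] at h3
  refine ⟨h, ⟨hhM, ?_, ?_⟩, ε, inside ε ?_ ?_, ?_, ?_⟩
  · have hle : LinearMap.ker (LinearMap.pi φ) ≤ meetZ h⁻¹ := fun p hp => by
      have h' := LinearMap.mem_ker.1 hp
      exact inside p (congrFun h' 0) (congrFun h' 1)
    have h1 := Submodule.finrank_mono hle
    have h2 := LinearMap.finrank_range_add_finrank_ker (LinearMap.pi φ)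
    have h3 := Submodule.finrank_le (LinearMap.range (LinearMap.pi φ))
    rw [Module.finrank_fin_fun] at h3
    rw [Module.finrank_pi] at h2
    rw [finrank_meetZ] at h1
    omega
  · obtain ⟨y, hy, hye⟩ : ∃ y ∈ meetZ g, Orth.pol Q y e ≠ 0 := by
      by_contra hcc
      push Not at hcc
      exact he0 (hZ e he hcc)
    have hlt : meetZ h⁻¹ < ⊤ := lt_top_iff_ne_top.2 fun htop => hye (by
      have := outside (im0 g⁻¹ y) (htop ▸ Submodule.mem_top)
      rwa [(im_back (mem_meetZ.1 hy)).1] at this)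
    have := Submodule.finrank_lt_finrank_of_lt hlt
    rwa [finrank_meetZ, finrank_top, Module.finrank_pi] at this
  · rw [hε, (im_back (mem_meetZ.1 he)).1, Orth.pol_self hQ, hee, mul_zero]
  · rw [hε, (im_back (mem_meetZ.1 he)).2, Orth.pol_zero_left hQ]
  · intro h0
    rw [h0, vec_zero, mv_zero] at hεv
    exact he0 (by simpa using (congrArg co0 hεv).symm)
  · intro q hq
    have := outside q hq
    rw [hc q e he] at this
    exact (mul_eq_zero.1 this).resolve_left hc0

/-- A member that is not a Kronecker product gives a member with a large proper meet. -/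
theorem exists_near (C : Ctx Q M)
    (hne : M ≠ preserving (Units.coeHom (Matrix (Fin 2 × β) (Fin 2 × β) F)) (frm Q))
    {g : GL (Fin 2 × β) F} (hg : g ∈ M) (hnk : ¬ IsKron g) : ∃ h, Near M h := by
  have hQ := C.hQ
  have h2 := C.h2
  by_contra hno
  push Not at hno
  -- every reflection stabilises the image of the line
  have hstab : ∀ w, Q w ≠ 0 → ∀ p, co1 (mv g⁻¹ (vec ((Orth.pol Q (im0 g p) w) • w) ((Orth.pol Q (im1 g p) w) • w))) = 0 := by
    intro w hw p
    obtain ⟨R, hR, hRv⟩ := C.mem_refl hw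
    set s := g⁻¹ * R * g with hs
    have hsM : s ∈ M := M.mul_mem (M.mul_mem (M.inv_mem hg) hR) hg
    set φ : Fin 2 → Module.Dual F (β → F) :=
      ![(Orth.formQ hQ w).comp (im0 g), (Orth.formQ hQ w).comp (im1 g)] with hφ
    have hle : LinearMap.ker (LinearMap.pi φ) ≤ meetZ s⁻¹ := fun q hq => by
      have h' := LinearMap.mem_ker.1 hq
      have h0 : Orth.pol Q (im0 g q) w = 0 := congrFun h' 0
      have h1 : Orth.pol Q (im1 g q) w = 0 := congrFun h' 1
      rw [mem_meetZ_inv]
      have : mv s (vec q 0) = vec q 0 := mv_inj g (by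
        rw [hs, mv_mul, mv_mul, mv_mv_inv, mv_line, hRv, h0, h1]
        simp)
      have e' := congrArg co1 this
      rwa [mv_line, co1_vec, co1_vec] at e'
    have h1 := Submodule.finrank_mono hle
    have h2' := LinearMap.finrank_range_add_finrank_ker (LinearMap.pi φ)
    have h3 := Submodule.finrank_le (LinearMap.range (LinearMap.pi φ))
    rw [Module.finrank_fin_fun] at h3
    rw [Module.finrank_pi] at h2'
    rw [finrank_meetZ] at h1
    have htop : meetZ s⁻¹ = ⊤ := Submodule.eq_top_of_finrank_eq (le_antisymm (Submodule.finrank_le _) (by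
      by_contra hlt
      push Not at hlt
      rw [Module.finrank_pi, finrank_meetZ] at hlt
      exact hno s ⟨hsM, by omega, hlt⟩))
    have hp : im1 s p = 0 := mem_meetZ_inv.1 (htop ▸ Submodule.mem_top)
    have e := congrArg co1 (mv_line s p)
    rw [co1_vec, hp, hs, mv_mul, mv_mul, mv_line, hRv,
      show vec (im0 g p - (Orth.pol Q (im0 g p) w / Q w) • w) (im1 g p - (Orth.pol Q (im1 g p) w / Q w) • w) =
        mv g (vec p 0) - (Q w)⁻¹ • vec (Orth.pol Q (im0 g p) w • w) (Orth.pol Q (im1 g p) w • w) by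
        rw [mv_line]
        refine co_ext ?_ ?_ <;> simp [smul_smul, div_eq_inv_mul],
      mv_sub, mv_smul, mv_inv_mv, map_sub, map_smul, co1_vec, zero_sub, neg_eq_zero, smul_eq_zero] at e
    exact e.resolve_left (inv_ne_zero hw)
  obtain ⟨w₀, hw₀, a₀, a₁, hane, hw⟩ : ∃ w, Q w ≠ 0 ∧ ∃ a₀ a₁ : F, (a₀ ≠ 0 ∨ a₁ ≠ 0) ∧
      co1 (mv g⁻¹ (vec (a₀ • w) (a₁ • w))) = 0 := by
    obtain ⟨i⟩ := C.nonempty
    set p : β → F := Pi.single i 1 with hp
    have hne' : im0 g p ≠ 0 ∨ im1 g p ≠ 0 := by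
      by_contra hc
      push Not at hc
      have := mv_line g p
      rw [hc.1, hc.2, vec_zero, ← mv_zero g] at this
      have h0 := congrArg co0 (mv_inj g this)
      rw [co0_vec, map_zero, hp] at h0
      simpa using congrFun h0 i
    rcases hne' with h' | h'
    · obtain ⟨z, -, hz, hzb⟩ := exists_nonsing_pol hQ h2 (Orth.nondeg_top hQ) Submodule.mem_top h'
      exact ⟨z, hz, _, _, Or.inl hzb, hstab z hz p⟩
    · obtain ⟨z, -, hz, hzb⟩ := exists_nonsing_pol hQ h2 (Orth.nondeg_top hQ) Submodule.mem_top h'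
      exact ⟨z, hz, _, _, Or.inr hzb, hstab z hz p⟩
  have step : ∀ w w', Q w' ≠ 0 → Orth.pol Q w w' ≠ 0 → co1 (mv g⁻¹ (vec (a₀ • w) (a₁ • w))) = 0 →
      co1 (mv g⁻¹ (vec (a₀ • w') (a₁ • w'))) = 0 := by
    intro w w' hw' hb hv
    have hback : mv g (vec (co0 (mv g⁻¹ (vec (a₀ • w) (a₁ • w)))) 0) = vec (a₀ • w) (a₁ • w) := by
      rw [← hv, vec_co, mv_mv_inv]
    rw [mv_line] at hback
    have h0 := congrArg co0 hback
    have h1 := congrArg co1 hback
    rw [co0_vec, co0_vec] at h0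
    rw [co1_vec, co1_vec] at h1
    have := hstab w' hw' (co0 (mv g⁻¹ (vec (a₀ • w) (a₁ • w))))
    rw [h0, h1, Orth.pol_smul_left hQ, Orth.pol_smul_left hQ, mul_comm a₀, mul_comm a₁, mul_smul, mul_smul,
      vec_smul, mv_smul, map_smul, smul_eq_zero] at this
    exact this.resolve_left hb
  set W : Submodule F (β → F) := LinearMap.ker (co1.comp ((mvLin g⁻¹).comp
    ({ toFun := fun x => vec (a₀ • x) (a₁ • x)
       map_add' := fun x y => by rw [smul_add, smul_add, vec_add]
       map_smul' := fun r x => by rw [RingHom.id_apply, smul_comm a₀, smul_comm a₁, vec_smul] } :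
      (β → F) →ₗ[F] Fin 2 × β → F))) with hW
  have hWmem : ∀ x, x ∈ W ↔ co1 (mv g⁻¹ (vec (a₀ • x) (a₁ • x))) = 0 := fun x => by
    simp [hW, mv]
  have hd : 3 ≤ Module.finrank F (⊤ : Submodule F (β → F)) := by
    rw [finrank_top, Module.finrank_pi]; have := C.h5; omega
  have hall : (⊤ : Submodule F (β → F)) ≤ W := forall_of_nonsing hQ h2 (Orth.nondeg_top hQ) fun z _ hz => by
    obtain ⟨y, -, hy, hy1, hy2⟩ := exists_connect hQ h2 (Orth.nondeg_top hQ) hd
      (Submodule.mem_top (x := w₀)) (Submodule.mem_top (x := z)) hw₀ hz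
    exact (hWmem z).2 (step y z hz (by rw [Orth.pol_comm]; exact hy2) (step w₀ y hy hy1 hw))
  obtain ⟨b₀, b₁, hdet⟩ : ∃ b₀ b₁ : F, a₀ * b₁ - b₀ * a₁ = 1 := by
    rcases hane with h | h
    · exact ⟨0, a₀⁻¹, by rw [mul_inv_cancel₀ h]; ring⟩
    · exact ⟨-a₁⁻¹, 0, by rw [neg_mul, inv_mul_cancel₀ h]; ring⟩
  obtain ⟨t, ht, htk, htv⟩ := C.mem_A a₀ b₀ a₁ b₁ hdet
  have hk := (stab_line C hne (M.mul_mem (M.inv_mem hg) ht) (LinearMap.ext fun p => by
    have := congrArg co1 (mv_line (g⁻¹ * t) p)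
    rw [co1_vec, mv_mul, htv, smul_zero, smul_zero, add_zero, add_zero] at this
    rw [← this]
    exact (hWmem p).1 (hall Submodule.mem_top))).1
  apply hnk
  have : g = t * (g⁻¹ * t)⁻¹ := by group
  rw [this]
  exact isKron_mul htk (isKron_inv hk)

/-- Some member meets the first line in a non-degenerate hyperplane. -/
theorem exists_hyperplane (C : Ctx Q M)
    (hne : M ≠ preserving (Units.coeHom (Matrix (Fin 2 × β) (Fin 2 × β) F)) (frm Q))
    {g : GL (Fin 2 × β) F} (hg : g ∈ M) (hnk : ¬ IsKron g) :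
    ∃ h ∈ M, Orth.Nondeg Q (meetZ h) ∧ Orth.Nondeg Q (meetZ h⁻¹) ∧
      Module.finrank F (meetZ h) + 1 = Fintype.card β := by
  obtain ⟨h₀, hh₀⟩ := exists_near C hne hg hnk
  have top : ∀ h, Near M h → Module.finrank F (meetZ h) + 1 = Fintype.card β → Orth.Nondeg Q (meetZ h⁻¹) := by
    intro h hh hd
    by_contra hbad
    obtain ⟨ζ, hζ, hζ0, hperp⟩ := exists_radical hbad
    obtain ⟨k, hk, hlt⟩ := grow C hne hh hζ hζ0 hperp
    have := hk.2.2
    omega
  obtain ⟨h₁, hh₁, hd₁⟩ : ∃ h, Near M h ∧ Module.finrank F (meetZ h) + 1 = Fintype.card β := by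
    by_cases hd : Module.finrank F (meetZ h₀) + 1 = Fintype.card β
    · exact ⟨h₀, hh₀, hd⟩
    by_cases hZ : Orth.Nondeg Q (meetZ h₀)
    · obtain ⟨k, hk, ζ, hζ, hζ0, hperp⟩ := spoil C hne hh₀ hZ
      obtain ⟨l, hl, hlt⟩ := grow C hne hk hζ hζ0 hperp
      exact ⟨l, hl, by have := hk.2.1; have := hl.2.2; omega⟩
    · obtain ⟨ζ, hζ, hζ0, hperp⟩ := exists_radical hZ
      obtain ⟨l, hl, hlt⟩ := grow C hne (near_inv hh₀) (by rwa [inv_inv]) hζ0 (by rwa [inv_inv])
      rw [finrank_meetZ] at hlt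
      exact ⟨l, hl, by have := hh₀.2.1; have := hl.2.2; omega⟩
  refine ⟨h₁, hh₁.1, ?_, top h₁ hh₁ hd₁, hd₁⟩
  have := top h₁⁻¹ (near_inv hh₁) (by rwa [finrank_meetZ])
  rwa [inv_inv] at this

end Cfsg.Agent.SympOrth
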