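/-
A non-degenerate hyperplane meet gives a radical element that is not scalar.
-/
import Cfsg.Agent.Lib.SympOrth.Meet

set_option autoImplicit false
set_option linter.all false

namespace Cfsg.Agent.SympOrth

open scoped Matrix
open Matrix Cfsg.Agent.Transvec Cfsg.Agent.TensorMax

variable {β : Type} [Fintype β] [DecidableEq β] {F : Type*} [Field F]
variable {Q : (β → F) → F} {M : Subgroup (GL (Fin 2 × β) F)}

/-- Members of M adding a multiple of e given by a two by two matrix. -/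
def Cent (hQ : Geo.IsNondegenerateQuadraticForm Q) (M : Subgroup (GL (Fin 2 × β) F)) (e : β → F)
    (a b c d : F) : Prop :=
  ∃ g ∈ M, ∀ p r, mv g (vec p r) =
    vec (p + (a * Orth.pol Q p e + b * Orth.pol Q r e) • e) (r + (c * Orth.pol Q p e + d * Orth.pol Q r e) • e)

theorem Cent.add (C : Ctx Q M) {e : β → F} (he : Orth.pol Q e e = 0) {a b c d a' b' c' d' : F}
    (h : Cent C.hQ M e a b c d) (h' : Cent C.hQ M e a' b' c' d') :
    Cent C.hQ M e (a + a') (b + b') (c + c') (d + d') := by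
  obtain ⟨g, hg, hgv⟩ := h
  obtain ⟨g', hg', hg'v⟩ := h'
  refine ⟨g * g', M.mul_mem hg hg', fun p r => ?_⟩
  rw [mv_mul, hg'v, hgv]
  simp only [Orth.pol_add_left C.hQ, Orth.pol_smul_left C.hQ, he, mul_zero, add_zero]
  refine co_ext ?_ ?_ <;> simp only [co0_vec, co1_vec] <;> module

theorem Cent.neg (C : Ctx Q M) {e : β → F} (he : Orth.pol Q e e = 0) {a b c d : F}
    (h : Cent C.hQ M e a b c d) : Cent C.hQ M e (-a) (-b) (-c) (-d) := by
  obtain ⟨g, hg, hgv⟩ := h
  refine ⟨g⁻¹, M.inv_mem hg, fun p r => mv_inj g ?_⟩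
  rw [mv_mv_inv, hgv]
  simp only [Orth.pol_add_left C.hQ, Orth.pol_smul_left C.hQ, he, mul_zero, add_zero]
  refine co_ext ?_ ?_ <;> simp only [co0_vec, co1_vec] <;> module

theorem Cent.up (C : Ctx Q M) {e : β → F} (he : Orth.pol Q e e = 0) {a b c d : F}
    (h : Cent C.hQ M e a b c d) (s : F) :
    Cent C.hQ M e (a + s * c) (b - s * a + s * d - s * s * c) c (d - s * c) := by
  obtain ⟨g, hg, hgv⟩ := h
  obtain ⟨t, ht, -, htv⟩ := C.mem_A 1 s 0 1 (by ring)
  have hti : ∀ p r, mv t⁻¹ (vec p r) = vec (p - s • r) r := fun p r => mv_inj t (by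
    rw [mv_mv_inv, htv]
    simp)
  refine ⟨t * g * t⁻¹, M.mul_mem (M.mul_mem ht hg) (M.inv_mem ht), fun p r => ?_⟩
  rw [mv_mul, mv_mul, hti, hgv, htv, Orth.pol_sub_left C.hQ, Orth.pol_smul_left C.hQ]
  refine co_ext ?_ ?_ <;> simp only [co0_vec, co1_vec] <;> module

/-- An element of the radical from a lower entry. -/
theorem short_of_cent (C : Ctx Q M) {e : β → F} (he : Orth.pol Q e e = 0) {a b c d : F}
    (h : Cent C.hQ M e a b c d) :
    Short M ((-2 * c) • (Orth.formQ C.hQ e).smulRight e) := by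
  have h1 := Cent.add C he (Cent.add C he (h.up C he 1) (h.up C he (-1)))
    (Cent.add C he (h.neg C he) (h.neg C he))
  obtain ⟨g, hg, hgv⟩ := h1
  refine ⟨g, hg, fun p r => ?_⟩
  rw [hgv]
  refine co_ext ?_ ?_ <;> simp only [co0_vec, co1_vec, LinearMap.smul_apply, LinearMap.smulRight_apply,
    Orth.formQ_apply] <;> module

/-- A member acting on one non-singular pure line only, with a lower entry, gives a radical element. -/
theorem short_of_line [Finite F] (C : Ctx Q M) {z₀ e : β → F} (hz₀ : Q z₀ ≠ 0) (hee : Q e = 0)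
    (he0 : e ≠ 0) (hez : Orth.pol Q e z₀ = 0) {m : GL (Fin 2 × β) F} (hm : m ∈ M) {a b c d : F}
    (hdet : a * d - b * c = 1) (hc : c ≠ 0)
    (hmv : ∀ p r, mv m (vec p r) =
      vec (p + (((a - 1) * Orth.pol Q p z₀ + b * Orth.pol Q r z₀) / (2 * Q z₀)) • z₀)
        (r + ((c * Orth.pol Q p z₀ + (d - 1) * Orth.pol Q r z₀) / (2 * Q z₀)) • z₀)) :
    ∃ S, Short M S ∧ ∀ k : F, S ≠ k • LinearMap.id := by
  have hQ := C.hQ
  have h2 := C.h2
  have hB : 2 * Q z₀ ≠ 0 := mul_ne_zero h2 hz₀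
  have hzz : Orth.pol Q z₀ z₀ = 2 * Q z₀ := Orth.pol_self hQ _
  have hze : Orth.pol Q z₀ e = 0 := by rw [Orth.pol_comm]; exact hez
  have hee' : Orth.pol Q e e = 0 := by rw [Orth.pol_self hQ, hee, mul_zero]
  have hmi : ∀ p r, mv m⁻¹ (vec p r) =
      vec (p + (((d - 1) * Orth.pol Q p z₀ - b * Orth.pol Q r z₀) / (2 * Q z₀)) • z₀)
        (r + ((-c * Orth.pol Q p z₀ + (a - 1) * Orth.pol Q r z₀) / (2 * Q z₀)) • z₀) := fun p r => mv_inj m (by
    rw [mv_mv_inv, hmv]
    simp only [Orth.pol_add_left hQ, Orth.pol_smul_left hQ, hzz, div_mul_cancel₀ _ hB]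
    refine co_ext ?_ ?_ <;> simp only [co0_vec, co1_vec] <;> match_scalars
    · ring
    · field_simp
      linear_combination -(Orth.pol Q p z₀) * hdet
    · ring
    · field_simp
      linear_combination -(Orth.pol Q r z₀) * hdet)
  obtain ⟨E, hE, hEv⟩ := C.mem_siegel hee (show Orth.pol Q e ((1 : F) • z₀) = 0 by rw [one_smul, hez])
  obtain ⟨E', hE', hE'v⟩ := C.mem_siegel hee (show Orth.pol Q e ((-1 : F) • z₀) = 0 by
    rw [Orth.pol_smul_right hQ, hez, mul_zero])
  have hC : Cent hQ M e (2 * Q z₀ * (d - a)) (2 * Q z₀ * (-2 * b)) (2 * Q z₀ * (-2 * c)) (2 * Q z₀ * (a - d)) := by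
    refine ⟨(m * E * m⁻¹ * E') * (m * E' * m⁻¹ * E), M.mul_mem
      (M.mul_mem (M.mul_mem (M.mul_mem hm hE) (M.inv_mem hm)) hE')
      (M.mul_mem (M.mul_mem (M.mul_mem hm hE') (M.inv_mem hm)) hE), fun p r => ?_⟩
    simp only [mv_mul, hmv, hmi, hEv, hE'v, Orth.pol_add_left hQ, Orth.pol_sub_left hQ, Orth.pol_smul_left hQ,
      Orth.pol_smul_right hQ, Orth.q_smul hQ, hzz, hze, hez, hee', mul_zero, add_zero, sub_zero, zero_add,
      zero_sub, one_mul, one_smul, mul_neg, neg_mul]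
    refine co_ext ?_ ?_ <;> simp only [co0_vec, co1_vec] <;> match_scalars <;> field_simp <;> grind
  refine ⟨_, short_of_cent C hee' hC, fun k hk => ?_⟩
  obtain ⟨i⟩ := C.nonempty
  have he : ((-2 * (2 * Q z₀ * (-2 * c))) * Orth.pol Q e e) • e = k • e := by
    have := LinearMap.congr_fun hk e
    simpa [Orth.formQ_apply, smul_smul] using this
  rw [hee', mul_zero, zero_smul] at he
  have hk0 : k = 0 := (smul_eq_zero.1 he.symm).resolve_right he0
  obtain ⟨⟨y, hy⟩, -⟩ := hQ.nondegenerate e he0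
  have := LinearMap.congr_fun hk y
  simp only [LinearMap.smul_apply, LinearMap.smulRight_apply, Orth.formQ_apply, hk0, zero_smul, smul_smul,
    LinearMap.id_apply, LinearMap.zero_apply] at this
  rcases smul_eq_zero.1 this with h | h
  · rcases mul_eq_zero.1 h with h' | h'
    · exact mul_ne_zero (neg_ne_zero.2 h2) (mul_ne_zero hB (mul_ne_zero (neg_ne_zero.2 h2) hc)) h'
    · exact hy h'
  · exact he0 h

/-- A hyperplane meet is impossible outside the whole group. -/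
theorem false_of_hyperplane [Finite F] (C : Ctx Q M)
    (hne : M ≠ preserving (Units.coeHom (Matrix (Fin 2 × β) (Fin 2 × β) F)) (frm Q))
    {g : GL (Fin 2 × β) F} (hg : g ∈ M) (hZ : Orth.Nondeg Q (meetZ g)) (hZ' : Orth.Nondeg Q (meetZ g⁻¹))
    (hd : Module.finrank F (meetZ g) + 1 = Fintype.card β) : False := by
  have hQ := C.hQ
  have h2 := C.h2
  have h5 := C.h5
  obtain ⟨c, hc0, hc⟩ := similitude C hne hg hZ (by omega)
  obtain ⟨x, hx, hxv⟩ := conj_up C hg 1
  simp only [one_smul] at hxv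
  obtain ⟨t, ht, -, htv⟩ := C.mem_A 1 (-c) 0 1 (by ring)
  obtain ⟨m, hmdef⟩ : ∃ m, m = t * x := ⟨_, rfl⟩
  have hm : m ∈ M := hmdef ▸ M.mul_mem ht hx
  have fix0 : ∀ z ∈ meetZ g, mv m (vec z 0) = vec z 0 := by
    intro z hz
    rw [hmdef, mv_mul, hxv, show co1 (mv g⁻¹ (vec z 0)) = 0 by rw [mv_line, co1_vec]; exact mem_meetZ.1 hz,
      map_zero, map_zero, vec_zero, add_zero, htv]
    simp
  have fix1 : ∀ z ∈ meetZ g, mv m (vec 0 z) = vec 0 z := by
    intro z hz
    have hN : co1 (mv g⁻¹ (vec 0 z)) = c • im0 g⁻¹ z := by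
      rw [← sub_eq_zero]
      by_contra hne'
      obtain ⟨⟨q, hq⟩, -⟩ := hQ.nondegenerate _ hne'
      apply hq
      show Orth.pol Q q _ = 0
      rw [Orth.pol_sub_right hQ, pol_im0 C hg, Orth.pol_smul_right hQ, hc q z hz, sub_self]
    rw [hmdef, mv_mul, hxv, hN, map_smul, map_smul, (im_back (mem_meetZ.1 hz)).1, (im_back (mem_meetZ.1 hz)).2,
      smul_zero, ← vec_add, htv]
    simp
  obtain ⟨z₀, hz₀o, hz₀0⟩ : ∃ z₀ ∈ Orth.orth hQ (meetZ g), z₀ ≠ 0 := by
    refine (Orth.orth hQ (meetZ g)).ne_bot_iff.1 fun h => ?_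
    have := range_im1 C (M.inv_mem hg)
    rw [inv_inv, h, LinearMap.range_eq_bot] at this
    have h' : (⊤ : Submodule F (β → F)) ≤ meetZ g⁻¹ := fun q _ => mem_meetZ_inv.2 (by rw [this]; rfl)
    have := Submodule.finrank_mono h'
    rw [finrank_top, Module.finrank_pi, finrank_meetZ] at this
    omega
  have hperp : ∀ z ∈ meetZ g, Orth.pol Q z z₀ = 0 := fun z hz => hz₀o z hz
  have hker : meetZ g = LinearMap.ker (Orth.formQ hQ z₀) := by
    refine Submodule.eq_of_le_of_finrank_le (fun z hz => LinearMap.mem_ker.2 (hperp z hz)) ?_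
    have h1 := LinearMap.finrank_range_add_finrank_ker (Orth.formQ hQ z₀)
    rw [Module.finrank_pi] at h1
    by_contra hlt
    push Not at hlt
    have h3 : LinearMap.range (Orth.formQ hQ z₀) = ⊥ := Submodule.finrank_eq_zero.1 (by omega)
    obtain ⟨⟨y, hy⟩, -⟩ := hQ.nondegenerate z₀ hz₀0
    exact hy (LinearMap.congr_fun (LinearMap.range_eq_bot.1 h3) y)
  have hz₀Q : Q z₀ ≠ 0 := fun h => hz₀0 (hZ z₀
    (hker ▸ LinearMap.mem_ker.2 (by rw [Orth.formQ_apply, Orth.pol_self hQ, h, mul_zero])) fun w hw => hperp w hw)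
  have hB : 2 * Q z₀ ≠ 0 := mul_ne_zero h2 hz₀Q
  have hproj : ∀ p, p - (Orth.pol Q p z₀ / (2 * Q z₀)) • z₀ ∈ meetZ g := fun p => by
    rw [hker, LinearMap.mem_ker, Orth.formQ_apply, Orth.pol_sub_left hQ, Orth.pol_smul_left hQ, Orth.pol_self hQ,
      div_mul_cancel₀ _ hB, sub_self]
  have online : ∀ v : β → F, (∀ z ∈ meetZ g, Orth.pol Q z v = 0) → ∃ k : F, v = k • z₀ := by
    intro v hv
    refine ⟨Orth.pol Q v z₀ / (2 * Q z₀), sub_eq_zero.1 (hZ _ (hproj v) fun w hw => ?_)⟩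
    rw [Orth.pol_sub_right hQ, Orth.pol_smul_right hQ, hv w hw, hperp w hw, mul_zero, sub_zero]
  have hline : ∀ p r, (∀ z ∈ meetZ g, Orth.pol Q z p = 0) → (∀ z ∈ meetZ g, Orth.pol Q z r = 0) →
      ∃ k l : F, mv m (vec p r) = vec (k • z₀) (l • z₀) := by
    intro p r hp hr
    obtain ⟨k, hk⟩ := online (co0 (mv m (vec p r))) fun z hz => by
      have h := C.iso hm (vec 0 z) (vec p r)
      rw [fix1 z hz, ← vec_co (mv m (vec p r)), frm_vec, frm_vec, Orth.pol_zero_left hQ, Orth.pol_zero_left hQ,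
        hp z hz] at h
      linear_combination -h
    obtain ⟨l, hl⟩ := online (co1 (mv m (vec p r))) fun z hz => by
      have h := C.iso hm (vec z 0) (vec p r)
      rw [fix0 z hz, ← vec_co (mv m (vec p r)), frm_vec, frm_vec, Orth.pol_zero_left hQ, Orth.pol_zero_left hQ,
        hr z hz] at h
      linear_combination h
    exact ⟨k, l, by rw [← hk, ← hl, vec_co]⟩
  obtain ⟨a, c', h0⟩ := hline z₀ 0 hperp (fun z _ => Orth.pol_zero_right hQ z)
  obtain ⟨b, d, h1⟩ := hline 0 z₀ (fun z _ => Orth.pol_zero_right hQ z) hperp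
  have hdet : a * d - b * c' = 1 := by
    have h := C.iso hm (vec z₀ 0) (vec 0 z₀)
    simp only [h0, h1, frm_vec, Orth.pol_smul_left hQ, Orth.pol_smul_right hQ, Orth.pol_self hQ,
      Orth.pol_zero_left hQ, Orth.pol_zero_right hQ, Orth.q_zero hQ, sub_zero, mul_zero] at h
    exact mul_right_cancel₀ hB (by linear_combination h)
  have hc' : c' ≠ 0 := by
    intro h
    have h' : im1 g (im1 g⁻¹ z₀) = 0 := by
      have e := congrArg co1 h0
      rw [hmdef, mv_mul, hxv, ← vec_co (vec z₀ 0 + _), htv] at e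
      simp only [co1_vec, map_add, h, zero_smul, one_smul, zero_add] at e
      rwa [mv_line, co1_vec] at e
    have hmem : im1 g⁻¹ z₀ ∈ meetZ g⁻¹ := mem_meetZ_inv.2 h'
    have h0' := hZ' _ hmem fun w hw => im1_orth C hg hw z₀
    exact hz₀0 (hZ z₀ (mem_meetZ.2 h0') fun w hw => hperp w hw)
  have hmv : ∀ p r, mv m (vec p r) =
      vec (p + (((a - 1) * Orth.pol Q p z₀ + b * Orth.pol Q r z₀) / (2 * Q z₀)) • z₀)
        (r + ((c' * Orth.pol Q p z₀ + (d - 1) * Orth.pol Q r z₀) / (2 * Q z₀)) • z₀) := by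
    intro p r
    set kp := Orth.pol Q p z₀ / (2 * Q z₀) with hkp
    set kr' := Orth.pol Q r z₀ / (2 * Q z₀) with hkr
    have e : vec p r = vec (p - kp • z₀) 0 + vec 0 (r - kr' • z₀) + kp • vec z₀ 0 + kr' • vec 0 z₀ := by
      refine co_ext ?_ ?_ <;> simp
    conv_lhs => rw [e]
    rw [mv_add, mv_add, mv_add, mv_smul, mv_smul, fix0 _ (hproj p), fix1 _ (hproj r), h0, h1]
    refine co_ext ?_ ?_ <;> simp only [map_add, map_smul, co0_vec, co1_vec, hkp, hkr] <;> match_scalars <;>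
      field_simp <;> ring
  obtain ⟨e, he, he0, hee⟩ := Orth.exists_singular hQ (X := meetZ g) (by omega)
  obtain ⟨S, hS, hns⟩ := short_of_line C hz₀Q hee he0 (hperp e he) hm hdet hc' hmv
  obtain ⟨k, hk⟩ := short_scalar C hne hS
  exact hns k hk

end Cfsg.Agent.SympOrth
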