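/-
The stabiliser of a decomposition of a symplectic space into an alternating plane and an orthogonal
space of dimension at least five is maximal.
-/
import Cfsg.Agent.Lib.SympOrth.Line
import Cfsg.Agent.Lib.TensorMax.SMain
import Cfsg.Agent.Lib.Transvec.SympStd

set_option autoImplicit false
set_option linter.all false

namespace Cfsg.Agent.SympOrth

open scoped Matrix Kronecker
open Matrix Cfsg.Agent.Transvec Cfsg.Agent.TensorMax
open Cfsg.Agent.TensorMax.U (mv_kron_ten)

/-- A transvection on a pure vector is not a product. -/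
theorem exists_not_kron {β : Type} [Fintype β] [DecidableEq β] {F : Type*} [Field F] {Q : (β → F) → F}
    (hQ : Geo.IsNondegenerateQuadraticForm Q) (h5 : 5 ≤ Fintype.card β) :
    ∃ g ∈ preserving (Units.coeHom (Matrix (Fin 2 × β) (Fin 2 × β) F)) (frm Q), ¬ IsKron g := by
  obtain ⟨i⟩ : Nonempty β := Fintype.card_pos_iff.1 (by omega)
  set e : β → F := Pi.single i 1 with hedef
  have he : e ≠ 0 := by simp [hedef]
  refine ⟨stv (frm_symplectic hQ) (vec e 0) 1, stv_mem _ _ _, fun hk => ?_⟩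
  obtain ⟨A, B, hAB⟩ := mv_kron_ten hk
  have key : ∀ w : β → F, (mv A ![0, 1]) 0 • mv B w = -(Orth.pol Q w e) • e ∧ (mv A ![0, 1]) 1 • mv B w = w := by
    intro w
    have h := hAB ![0, 1] w
    have hvec : (ten ![0, 1] w : Fin 2 × β → F) = vec 0 w := by
      refine co_ext ?_ ?_ <;> simp [co0_ten, co1_ten]
    rw [hvec, mv_stv, frm_vec, Orth.pol_zero_left hQ] at h
    constructor
    · have := congrArg co0 h
      simpa [co0_ten] using this.symm
    · have := congrArg co1 h
      simpa [co1_ten] using this.symm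
  obtain ⟨w, hw, hw0⟩ := (LinearMap.ker (Orth.formQ hQ e)).ne_bot_iff.1 (fun h => by
    have h1 := LinearMap.finrank_range_add_finrank_ker (Orth.formQ hQ e)
    have h2 := Submodule.finrank_le (LinearMap.range (Orth.formQ hQ e))
    rw [h, finrank_bot, Module.finrank_pi] at h1
    rw [Module.finrank_self] at h2
    omega)
  obtain ⟨k1, k2⟩ := key w
  rw [LinearMap.mem_ker, Orth.formQ_apply] at hw
  rw [hw, neg_zero, zero_smul] at k1
  have hA : (mv A ![0, 1]) 0 = 0 := (smul_eq_zero.1 k1).resolve_right fun h => hw0 (by rw [← k2, h, smul_zero])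
  obtain ⟨⟨y, hy⟩, -⟩ := hQ.nondegenerate e he
  have k3 := (key y).1
  rw [hA, zero_smul] at k3
  exact (smul_ne_zero (neg_ne_zero.2 hy) he) k3.symm

/-- Maximality in coordinates. -/
theorem maximal_std {β : Type} [Fintype β] [DecidableEq β] {F : Type*} [Field F] [Finite F] {Q : (β → F) → F}
    (hQ : Geo.IsNondegenerateQuadraticForm Q) (h2 : (2 : F) ≠ 0) (h5 : 5 ≤ Fintype.card β)
    {K : Subgroup (GL (Fin 2 × β) F)} (hK : ∀ g, g ∈ K ↔ IsKron g) :
    Geo.IsMaximalIn (preserving (Units.coeHom (Matrix (Fin 2 × β) (Fin 2 × β) F)) (frm Q))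
      (K ⊓ preserving (Units.coeHom (Matrix (Fin 2 × β) (Fin 2 × β) F)) (frm Q)) := by
  refine ⟨lt_of_le_of_ne inf_le_right fun heq => ?_, fun M hM1 hM2 => ?_⟩
  · obtain ⟨g, hg, hnk⟩ := exists_not_kron hQ h5
    rw [← heq] at hg
    exact hnk ((hK g).1 hg.1)
  · by_cases hall : ∀ g ∈ M, IsKron g
    · exact Or.inl (le_antisymm (fun g hg => ⟨(hK g).2 (hall g hg), hM2 hg⟩) hM1)
    push Not at hall
    obtain ⟨g, hg, hnk⟩ := hall
    refine Or.inr ?_
    by_contra hne
    have C : Ctx Q M := ⟨hQ, h2, h5, hM2, fun x hx hx' => hM1 ⟨(hK x).2 hx, hx'⟩⟩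
    obtain ⟨h, hh, hZ, hZ', hd⟩ := exists_hyperplane C hne hg hnk
    exact false_of_hyperplane C hne hh hZ hZ' hd

/-- The stabiliser of a decomposition into an alternating plane and an orthogonal space is maximal. -/
theorem symp_orth_maximal {F : Type*} [Field F] [Fintype F] (hodd : Odd (Fintype.card F)) {m n : ℕ} (h5 : 5 ≤ n)
    (e : (Fin m ⊕ Fin m) ≃ Fin 2 × Fin n) (P : GL (Fin m ⊕ Fin m) F)
    (f₁ : (Fin 2 → F) → (Fin 2 → F) → F) (f₂ : (Fin n → F) → (Fin n → F) → F)
    (hf₁ : Geo.IsSymplecticForm f₁) (hf₂ : Geo.IsSymmetricForm f₂)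
    (hT : Geo.IsTensorFormStructure id (sympForm m F) f₁ f₂ e P) :
    Geo.IsMaximalIn (spGL m F) (Geo.tensorProductSubgroup 2 n e P ⊓ spGL m F) := by
  have h2 : (2 : F) ≠ 0 := by
    intro h
    have hchar : ringChar F = 2 := by
      haveI : CharP F (ringChar F) := ringChar.charP F
      exact (CharP.ringChar_of_prime_eq_zero Nat.prime_two (by exact_mod_cast h))
    have := FiniteField.even_card_iff_char_two.1 hchar
    exact Nat.not_even_iff_odd.2 hodd (Nat.even_iff.2 this)
  obtain ⟨c, hc, hT⟩ := hT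
  set Q : (Fin n → F) → F := fun x => f₂ x x / 2 with hQdef
  have hpol : ∀ x y, Orth.pol Q x y = f₂ x y := fun x y => by
    simp only [hQdef, Orth.pol, QuadraticMap.polar, hf₂.bilinear.add_left, hf₂.bilinear.add_right, hf₂.symm y x]
    field_simp
    ring
  have hQ : Geo.IsNondegenerateQuadraticForm Q := by
    refine ⟨fun r v => ?_, ⟨fun x y v => ?_, fun r x v => ?_, fun v x y => ?_, fun r v x => ?_⟩, fun v hv => ?_⟩
    · simp only [hQdef, hf₂.bilinear.smul_left, hf₂.bilinear.smul_right]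
      ring
    · show Orth.pol Q (x + y) v = Orth.pol Q x v + Orth.pol Q y v
      simp only [hpol, hf₂.bilinear.add_left]
    · show Orth.pol Q (r • x) v = r * Orth.pol Q x v
      simp only [hpol, hf₂.bilinear.smul_left]
    · show Orth.pol Q v (x + y) = Orth.pol Q v x + Orth.pol Q v y
      simp only [hpol, hf₂.bilinear.add_right]
    · show Orth.pol Q v (r • x) = r * Orth.pol Q v x
      simp only [hpol, hf₂.bilinear.smul_right]
    · obtain ⟨⟨x, hx⟩, ⟨y, hy⟩⟩ := hf₂.nondegenerate v hv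
      exact ⟨⟨x, show Orth.pol Q x v ≠ 0 by rwa [hpol]⟩, ⟨y, show Orth.pol Q v y ≠ 0 by rwa [hpol]⟩⟩
  set κ := f₁ (Pi.single 0 1) (Pi.single 1 1) with hκdef
  have hκ : κ ≠ 0 := by
    intro h0
    obtain ⟨⟨x, hx⟩, -⟩ := hf₁.nondegenerate (Pi.single 0 1) (by simp)
    apply hx
    conv_lhs => rw [pi_eq_sum_univ' x, f_sum_left hf₁, Fin.sum_univ_two]
    rw [hf₁.bilinear.smul_left, hf₁.bilinear.smul_left, hf₁.alternating, hf₁.skew (Pi.single 1 1), ← hκdef, h0]
    ring
  have hbase : ∀ (r : ℕ) (g : (Fin r → F) → (Fin r → F) → F), Geo.IsBilinearForm g → ∀ u v,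
      ∑ i, ∑ j, u i * Geo.gramMatrix g i j * v j = g u v := by
    intro r g hg u v
    have hl : ∀ (s : Finset (Fin r)) (x : Fin r → Fin r → F) w, g (∑ i ∈ s, x i) w = ∑ i ∈ s, g (x i) w := by
      intro s x w
      exact map_sum (AddMonoidHom.mk' (fun a => g a w) fun a b => hg.add_left a b w) x s
    have hr : ∀ (s : Finset (Fin r)) (x : Fin r → Fin r → F) w, g w (∑ i ∈ s, x i) = ∑ i ∈ s, g w (x i) := by
      intro s x w
      exact map_sum (AddMonoidHom.mk' (fun a => g w a) fun a b => hg.add_right w a b) x s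
    conv_rhs => rw [pi_eq_sum_univ' u, pi_eq_sum_univ' v, hl]
    refine Finset.sum_congr rfl fun i _ => ?_
    rw [hg.smul_left, hr, Finset.mul_sum]
    refine Finset.sum_congr rfl fun j _ => ?_
    rw [hg.smul_right, Geo.gramMatrix]
    ring
  have hform : ∀ x y : Fin 2 × Fin n → F, sympForm m F (mv P (x ∘ e)) (mv P (y ∘ e)) = c * κ * frm Q x y := by
    intro x y
    rw [show sympForm m F (mv P (x ∘ e)) (mv P (y ∘ e)) = _ from hT x y, mul_assoc c κ]
    congr 1
    have g00 : Geo.gramMatrix f₁ 0 0 = 0 := hf₁.alternating _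
    have g11 : Geo.gramMatrix f₁ 1 1 = 0 := hf₁.alternating _
    have g01 : Geo.gramMatrix f₁ 0 1 = κ := rfl
    have g10 : Geo.gramMatrix f₁ 1 0 = -κ := hf₁.skew _ _
    simp only [Geo.formOfGram, id_eq, Fintype.sum_prod_type, Fin.sum_univ_two, Matrix.kroneckerMap_apply, g00, g11,
      g01, g10, zero_mul, mul_zero, zero_mul, Finset.sum_const_zero, add_zero, zero_add, frm, hpol,
      ← hbase n f₂ hf₂.bilinear]
    simp only [co0, co1, LinearMap.coe_mk, AddHom.coe_mk, mul_sub, Finset.mul_sum, sub_eq_add_neg,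
      ← Finset.sum_neg_distrib]
    rw [mul_add]
    simp only [Finset.mul_sum]
    refine congrArg₂ (fun a b : F => a + b) ?_ ?_ <;>
      exact Finset.sum_congr rfl fun i _ => Finset.sum_congr rfl fun j _ => by ring
  have hmap : ((preserving (Units.coeHom (Matrix (Fin 2 × Fin n) (Fin 2 × Fin n) F)) (frm Q)).map
      (Geo.glReindex (F := F) e.symm).toMonoidHom).map (MulAut.conj P).toMonoidHom = spGL m F := by
    let φ : GL (Fin 2 × Fin n) F ≃* GL (Fin m ⊕ Fin m) F := (Geo.glReindex e.symm).trans (MulAut.conj P)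
    have hφ : ∀ g x, mv (φ g) (mv P (x ∘ e)) = mv P ((mv g x) ∘ e) := fun g x => by
      show mv (MulAut.conj P (Geo.glReindex e.symm g)) (mv P (x ∘ e)) = _
      rw [MulAut.conj_apply, mv_mul, mv_mul, mv_inv_mv, TensorMax.S.mv_reindex']
    have hsurj : ∀ y, ∃ x : Fin 2 × Fin n → F, mv P (x ∘ e) = y := fun y => ⟨(mv P⁻¹ y) ∘ e.symm, by
      rw [Function.comp_assoc, Equiv.symm_comp_self, Function.comp_id, mv_mv_inv]⟩
    rw [Subgroup.map_map]
    show Subgroup.map φ.toMonoidHom _ = _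
    ext g
    constructor
    · rintro ⟨h, hh, rfl⟩
      show ∀ u v, sympForm m F (mv (φ h) u) (mv (φ h) v) = sympForm m F u v
      intro u v
      obtain ⟨x, rfl⟩ := hsurj u
      obtain ⟨y, rfl⟩ := hsurj v
      rw [hφ, hφ, hform, hform, show frm Q (mv h x) (mv h y) = frm Q x y from hh x y]
    · intro hg
      obtain ⟨h, rfl⟩ := φ.surjective g
      refine ⟨h, fun x y => ?_, rfl⟩
      have := hg (mv P (x ∘ e)) (mv P (y ∘ e))
      show frm Q (mv h x) (mv h y) = frm Q x y
      have this' : sympForm m F (mv (φ h) (mv P (x ∘ e))) (mv (φ h) (mv P (y ∘ e))) =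
          sympForm m F (mv P (x ∘ e)) (mv P (y ∘ e)) := this
      rw [hφ, hφ, hform, hform] at this'
      exact mul_left_cancel₀ (mul_ne_zero hc hκ) this'
  have h := maximal_std hQ h2 (by simpa using h5) (K := Geo.kroneckerSubgroup 2 n F) (fun g => Iff.rfl)
  have h' := Transvec.isMaximalIn_map (MulAut.conj P) (Transvec.isMaximalIn_map (Geo.glReindex e.symm) h)
  rw [Subgroup.map_inf _ _ (Geo.glReindex (F := F) e.symm).toMonoidHom (Geo.glReindex e.symm).injective,
    Subgroup.map_inf _ _ (MulAut.conj P).toMonoidHom (MulAut.conj P).injective, hmap] at h'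
  exact h'

end Cfsg.Agent.SympOrth
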